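import Cfsg.Agent.Lib.Walter4.Ind
import Cfsg.Agent.Lib.SEMain.Bender
import Cfsg.Agent.Lib.SEMain.Proof
import Cfsg.Agent.Lib.AbelianTwo.Cover
import Cfsg.Agent.Lib.TwoXDih.InterfaceBridge
import Cfsg.Agent.Lib.J1.Simple
import Cfsg.Agent.S0343
import Cfsg.Agent.S4273
import Cfsg.Prelude.Def_LocalEven

/-!
# Naming the Goldschmidt groups
-/

set_option autoImplicit false
set_option linter.style.haveILetI false
set_option linter.unusedSectionVars false

namespace Cfsg.Agent.GoldGroups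

open Subgroup

universe u

/-- The simple groups with abelian Sylow 2-subgroups are listed. -/
def WalterGood : Prop :=
  ∀ (G : Type u) [Group G] [Finite G], IsSimpleGroup G → ¬ IsMulCommutative G →
    (∀ P : Sylow 2 G, IsMulCommutative (P : Subgroup G)) → Walter4.Good G

/-- No field automorphisms in the centralisers of involutions of groups of Ree–Janko type. -/
def RJNoField : Prop :=
  ∀ (G : Type u) [Group G] [Finite G], Walter4.RJType G →
    ∃ t : G, orderOf t = 2 ∧ ∃ (F : Type) (_ : Field F) (_ : Fintype F), 3 < Fintype.card F ∧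
      Nonempty (centralizer ({t} : Set G) ≃* Multiplicative (ZMod 2) × Matrix.ProjectiveSpecialLinearGroup (Fin 2) F)

/-- Goldschmidt's theorem for simple groups. -/
def ClosedAbelianSimple : Prop :=
  ∀ (G : Type u) [Group G] [Finite G] [IsSimpleGroup G] (S : Sylow 2 G) (A : Subgroup G), A ≠ ⊥ →
    IsMulCommutative A → Cfsg.IsStronglyClosed A (S : Subgroup G) →
      IsMulCommutative (S : Subgroup G) ∨ ∃ H : Subgroup G, Cfsg.IsStronglyEmbedded H

variable {G : Type u} [Group G] [Finite G]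

/-- `PSL₂(4)` is one of the groups on the list as `PSL₂(5)`. -/
theorem gold_psl_four {F : Type} [Field F] [Fintype F] (hF : Fintype.card F = 4)
    (e : G ≃* Matrix.ProjectiveSpecialLinearGroup (Fin 2) F) : Cfsg.IsGoldschmidtGroup G := by
  haveI : Fact (Nat.Prime 5) := ⟨by norm_num⟩
  obtain ⟨e'⟩ := AbelianTwo.psl_four_five (Or.inl hF)
  exact Or.inr (Or.inr (Or.inr (Or.inr (Or.inl ⟨ZMod 5, inferInstance, inferInstance, 5, ZMod.card 5, le_rfl,
    Or.inr rfl, ⟨e.trans e'⟩⟩))))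

/-- `PSL₂(2ⁿ)`. -/
theorem gold_psl_two {F : Type} [Field F] [Fintype F] {n : ℕ} (hn : 2 ≤ n) (hF : Fintype.card F = 2 ^ n)
    (e : G ≃* Matrix.ProjectiveSpecialLinearGroup (Fin 2) F) : Cfsg.IsGoldschmidtGroup G := by
  rcases eq_or_lt_of_le hn with rfl | h3
  · exact gold_psl_four hF e
  · exact Or.inr (Or.inl ⟨F, inferInstance, inferInstance, n, h3, hF, ⟨e⟩⟩)

/-- A simple group with a strongly embedded subgroup. -/
theorem gold_of_se [IsSimpleGroup G] {H : Subgroup G} (hH : Cfsg.IsStronglyEmbedded H) :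
    Cfsg.IsGoldschmidtGroup G := by
  rcases SEMain.bender_of_simple SEMain.stmt hH with ⟨F, i1, i2, ⟨n, hn, hF⟩, ⟨e⟩⟩ | h | ⟨F, i1, i2, n, hn, hF, he⟩
  · exact gold_psl_two hn hF e
  · exact Or.inr (Or.inr (Or.inl h))
  · refine Or.inr (Or.inr (Or.inr (Or.inl ⟨F, i1, i2, n, hn, ?_, he⟩)))
    rw [hF, ← pow_mul, mul_comm, pow_mul, show (2 : ℕ) ^ 2 = 4 from rfl]

/-- A simple group of order `175560` is `J₁`. -/
theorem isoJ1_of_isJ1 (h : Cfsg.IsJ1 G) : Cfsg.Spor.IsoJ1 G := by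
  obtain ⟨hs, hc⟩ := h
  haveI := hs
  haveI := J1.isSimple_J1
  haveI : Finite ↥Cfsg.Spor.J1 := Nat.finite_of_card_ne_zero (by rw [J1.card_J1]; norm_num)
  exact Cfsg.Agent.S4273.result hc J1.card_J1

/-- A simple group with abelian Sylow 2-subgroups. -/
theorem gold_of_abelian (hW : WalterGood.{u}) (hNF : RJNoField.{u}) [IsSimpleGroup G] (hna : ¬ IsMulCommutative G)
    (hab : ∀ P : Sylow 2 G, IsMulCommutative (P : Subgroup G)) : Cfsg.IsGoldschmidtGroup G := by
  rcases hW G inferInstance hna hab with ⟨F, i1, i2, hF | ⟨n, hn, hF⟩, ⟨e⟩⟩ | hRJ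
  · exact Or.inr (Or.inr (Or.inr (Or.inr (Or.inl ⟨F, i1, i2, _, rfl, hF.2, hF.1, ⟨e⟩⟩))))
  · exact gold_psl_two hn hF e
  obtain ⟨t, ht, F, i1, i2, hq, ⟨e⟩⟩ := hNF G hRJ
  have hcomm : ∀ P : Sylow 2 G, ∀ a b : P, a * b = b * a := fun P => (hab P).is_comm.comm
  rcases Cfsg.Agent.S0343.result hcomm hq.le t ht ⟨e⟩ with ⟨m, hm, hFm, -⟩ | ⟨-, hJ⟩
  · left
    set C := centralizer ({t} : Set G) with hC
    set K := (((⊥ : Subgroup (Multiplicative (ZMod 2))).prod
      (⊤ : Subgroup (Matrix.ProjectiveSpecialLinearGroup (Fin 2) F))).map e.symm.toMonoidHom).map C.subtype with hK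
    have hmem : ∀ p, ((e.symm (1, p) : C) : G) ∈ K := fun p =>
      ⟨_, ⟨(1, p), ⟨mem_bot.2 rfl, mem_top p⟩, rfl⟩, rfl⟩
    have htC : t ∈ C := mem_centralizer_singleton_iff.2 rfl
    -- the image of the involution
    have het : e ⟨t, htC⟩ = (Multiplicative.ofAdd 1, 1) := by
      have h2 : (e ⟨t, htC⟩).2 = 1 := by
        have hc : (e ⟨t, htC⟩).2 ∈ center (Matrix.ProjectiveSpecialLinearGroup (Fin 2) F) := by
          refine mem_center_iff.2 fun g => ?_
          have h1 : e.symm (1, g) * ⟨t, htC⟩ = ⟨t, htC⟩ * e.symm (1, g) :=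
            Subtype.ext (mem_centralizer_singleton_iff.1 (e.symm (1, g)).2)
          have h3 := congrArg e h1
          rw [map_mul, map_mul, e.apply_symm_apply] at h3
          exact congrArg Prod.snd h3
        rwa [TwoXDih.psl_center (by omega), mem_bot] at hc
      refine Prod.ext ((TwoXDih.z2_cases _).resolve_left fun h1 => ?_) h2
      have h4 : (⟨t, htC⟩ : C) = 1 := e.injective (by rw [map_one]; exact Prod.ext h1 h2)
      rw [show t = 1 from congrArg Subtype.val h4, orderOf_one] at ht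
      omega
    obtain ⟨S, hSt⟩ : ∃ S : Sylow 2 G, t ∈ (S : Subgroup G) := by
      obtain ⟨S, hS⟩ := (IsPGroup.of_card (n := 1) (by rw [Nat.card_zpowers, ht, pow_one]) :
        IsPGroup 2 (zpowers t)).exists_le_sylow
      exact ⟨S, hS (mem_zpowers t)⟩
    refine ⟨inferInstance, hna, t, K, m, hm, ht, ?_, ⟨?_, ?_, ?_, ?_, ?_⟩, F, i1, i2, hFm, ?_⟩
    · rw [← Nat.not_even_iff_odd, even_iff_two_dvd]
      intro h
      haveI : Fact (Nat.Prime 2) := ⟨Nat.prime_two⟩
      refine S.not_dvd_index (h.trans (index_dvd_of_le fun s hs => ?_))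
      exact mem_centralizer_singleton_iff.2 (congrArg Subtype.val (hcomm S ⟨s, hs⟩ ⟨t, hSt⟩))
    · exact zpowers_le.2 htC
    · exact map_subtype_le _
    · rintro a ha b ⟨c, -, rfl⟩
      obtain ⟨i, rfl⟩ := mem_zpowers_iff.1 ha
      exact (Commute.zpow_left (mem_centralizer_singleton_iff.1 c.2).symm i).eq
    · rw [eq_bot_iff]
      rintro a ⟨ha, ⟨c, ⟨p, ⟨hp1, -⟩, rfl⟩, rfl⟩⟩
      obtain ⟨i, hi⟩ := mem_zpowers_iff.1 ha
      have h1 : e.symm p = (⟨t, htC⟩ : C) ^ i := Subtype.ext hi.symm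
      have h2 := congrArg (fun x => (e x).2) h1
      simp only [MulEquiv.apply_symm_apply, map_zpow, het, Prod.pow_snd, one_zpow] at h2
      have hp : p = 1 := Prod.ext (mem_bot.1 hp1) h2
      rw [mem_bot, hp]
      simp
    · refine le_antisymm (sup_le (zpowers_le.2 htC) (map_subtype_le _)) fun c hc => ?_
      rcases TwoXDih.z2_cases (e ⟨c, hc⟩).1 with h1 | h1
      · refine mem_sup_right ?_
        have := hmem (e ⟨c, hc⟩).2
        rwa [show ((1, (e ⟨c, hc⟩).2) : _ × _) = e ⟨c, hc⟩ from Prod.ext h1.symm rfl, e.symm_apply_apply] at this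
      · have h5 := hmem (e ⟨c, hc⟩).2
        have h6 : e.symm (1, (e ⟨c, hc⟩).2) = (⟨t, htC⟩ : C)⁻¹ * ⟨c, hc⟩ := e.injective (by
          rw [e.apply_symm_apply, map_mul, map_inv, het]
          exact Prod.ext (by simp [h1]) (by simp))
        rw [h6] at h5
        rw [show c = t * (t⁻¹ * c) by group]
        exact mul_mem (mem_sup_left (mem_zpowers t)) (mem_sup_right h5)
    · exact ⟨(((equivMapOfInjective _ _ e.symm.injective).trans
        (equivMapOfInjective _ _ C.subtype_injective)).symm.trans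
          (Subgroup.prodEquiv ⊥ ⊤)).trans ((MulEquiv.prodCongr (MulEquiv.refl _) Subgroup.topEquiv).trans
            MulEquiv.uniqueProd)⟩
  · exact Or.inr (Or.inr (Or.inr (Or.inr (Or.inr (isoJ1_of_isJ1 hJ)))))

end Cfsg.Agent.GoldGroups
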