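/-
Criteria for sections isomorphic to the symmetric groups of degree three and four.
-/
import Cfsg.Agent.Lib.LocalEven.Involvement

set_option autoImplicit false
set_option linter.unusedSectionVars false

namespace Cfsg.Agent.GoldGroups

open Cfsg.Agent Cfsg.Agent.LEBasic

universe u v

/-- The symmetric group of degree three. -/
abbrev Sym3 : Type := Equiv.Perm (Fin 3)

/-- The symmetric group of degree four. -/
abbrev Sym4 : Type := Equiv.Perm (Fin 4)

theorem swaps_facts : (Equiv.swap (0 : Fin 3) 1) * (Equiv.swap 0 1) = 1 ∧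
    (Equiv.swap (1 : Fin 3) 2) * (Equiv.swap 1 2) = 1 ∧
    ((Equiv.swap (0 : Fin 3) 1) * Equiv.swap 1 2) ^ 3 = 1 ∧
    (Equiv.swap (0 : Fin 3) 1) * Equiv.swap 1 2 ≠ 1 := by
  decide +kernel

theorem card_sym3 : Nat.card Sym3 = 6 := by
  rw [Nat.card_eq_fintype_card, Fintype.card_perm, Fintype.card_fin]
  rfl

/-- The two-part of a lift of an involution is again a lift. -/
theorem exists_two_lift {K : Type*} [Group K] [Finite K] {S : Type*} [Group S] (ψ : K →* S) {g : K} {s : S}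
    (hg : ψ g = s) (hs : s * s = 1) :
    ∃ a : K, (∃ k, orderOf a = 2 ^ k) ∧ a ∈ Subgroup.zpowers g ∧ ψ a = s := by
  haveI : Fact (Nat.Prime 2) := ⟨Nat.prime_two⟩
  obtain ⟨a, b, hgb, ha, hb, haz, hbz⟩ := LEBasic.exists_p_part (p := 2) g
  have hψb : ψ b = 1 := by
    obtain ⟨j, hj⟩ := Subgroup.mem_zpowers_iff.1 hbz
    have h1 : orderOf (ψ b) ∣ 2 := by
      refine orderOf_dvd_of_pow_eq_one ?_
      rw [← hj, map_zpow, hg, ← zpow_natCast, ← zpow_mul, mul_comm, zpow_mul, zpow_natCast, pow_two, hs, one_zpow]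
    exact orderOf_eq_one_iff.1 (Nat.eq_one_of_dvd_coprimes hb.symm h1 (orderOf_map_dvd ψ b))
  exact ⟨a, ha, haz, by rw [← hg, hgb, map_mul, hψb, mul_one]⟩

/-- A group is free of `S₄` if for every 2-subgroup the product of two normalising 2-elements is a 2-element
modulo the centralizer. -/
theorem not_sym4 {G : Type u} [Group G] [Finite G]
    (h : ∀ T : Subgroup G, IsPGroup 2 T → T ≠ ⊥ → ∀ a b : G,
      a ∈ Subgroup.normalizer (T : Set G) → b ∈ Subgroup.normalizer (T : Set G) →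
      (∃ k, orderOf a = 2 ^ k) → (∃ k, orderOf b = 2 ^ k) →
      ∃ k, (a * b) ^ 2 ^ k ∈ Subgroup.centralizer (T : Set G)) :
    ¬ Cfsg.Involves Sym4 G := by
  intro hinv
  obtain ⟨K, ψ, hψ⟩ := LEInvolve.exists_hom_of_involves hinv
  haveI : Fact (Nat.Prime 2) := ⟨Nat.prime_two⟩
  obtain ⟨P, hP, hPA, hidx, hlift⟩ := LEInvolve.exists_normalizer_lift ψ hψ 2 (A := LEInvolve.chi.ker)
  set T := P.map K.subtype with hT
  have hlift2 : ∀ s : Sym3, s * s = 1 → ∃ a : K, (∃ k, orderOf a = 2 ^ k) ∧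
      a ∈ Subgroup.normalizer (P : Set K) ∧ LEInvolve.chi (ψ a) = s := by
    intro s hs
    obtain ⟨s', rfl⟩ := LEInvolve.chi_surjective s
    obtain ⟨g, hg, a, ha, hga⟩ := hlift s'
    obtain ⟨a', h1, h2, h3⟩ := exists_two_lift (LEInvolve.chi.comp ψ) (g := g) (s := LEInvolve.chi s')
      (by rw [MonoidHom.comp_apply, hga, map_mul, MonoidHom.mem_ker.1 ha, mul_one]) hs
    exact ⟨a', h1, Subgroup.zpowers_le.2 hg h2, h3⟩
  obtain ⟨a, ha, haN, haψ⟩ := hlift2 _ swaps_facts.1
  obtain ⟨b, hb, hbN, hbψ⟩ := hlift2 _ swaps_facts.2.1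
  have hmap : P.map ψ = LEInvolve.chi.ker := by
    have hker : Nat.card ↥LEInvolve.chi.ker = 4 :=
      (Nat.card_congr (Equiv.subtypeEquivRight fun σ => MonoidHom.mem_ker)).trans
        (Nat.card_eq_fintype_card.trans ((Fintype.card_subtype _).trans LEInvolve.chi_ker_card))
    have h1 : P.map ψ ≤ LEInvolve.chi.ker := Subgroup.map_le_iff_le_comap.2 hPA
    have h2 : (P.map ψ).relIndex LEInvolve.chi.ker ∣ P.relIndex (LEInvolve.chi.ker.comap ψ) := by
      have := Subgroup.relIndex_comap (P.map ψ) ψ (LEInvolve.chi.ker.comap ψ)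
      rw [Subgroup.map_comap_eq_self_of_surjective hψ] at this
      rw [← this]
      exact Subgroup.relIndex_dvd_of_le_left _ (Subgroup.le_comap_map ψ P)
    have h3 : (P.map ψ).relIndex LEInvolve.chi.ker ∣ 2 ^ 2 :=
      (Subgroup.relIndex_dvd_card (P.map ψ) LEInvolve.chi.ker).trans (hker.dvd.trans (by norm_num))
    obtain ⟨i, -, hi⟩ := (Nat.dvd_prime_pow Nat.prime_two).1 h3
    rcases i with _ | i
    · exact le_antisymm h1 (Subgroup.relIndex_eq_one.1 (by rw [hi, pow_zero]))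
    · exact absurd ((dvd_pow_self 2 i.succ_ne_zero).trans (hi ▸ h2)) hidx
  have hT1 : T ≠ ⊥ := by
    intro hbot
    have hP1 : P = ⊥ := (Subgroup.map_eq_bot_iff_of_injective P K.subtype_injective).1 hbot
    rw [hP1, Subgroup.map_bot] at hmap
    have hk := congrArg (fun X : Subgroup (Equiv.Perm (Fin 4)) => Nat.card ↥X) hmap
    simp only [Subgroup.card_bot] at hk
    rw [show Nat.card ↥LEInvolve.chi.ker = 4 from
      (Nat.card_congr (Equiv.subtypeEquivRight fun σ => MonoidHom.mem_ker)).trans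
        (Nat.card_eq_fintype_card.trans ((Fintype.card_subtype _).trans LEInvolve.chi_ker_card))] at hk
    omega
  have hN : ∀ x : K, x ∈ Subgroup.normalizer (P : Set K) → (x : G) ∈ Subgroup.normalizer (T : Set G) :=
    fun x hx => Subgroup.le_normalizer_map _ ⟨x, hx, rfl⟩
  have h2ord : ∀ x : K, (∃ k, orderOf x = 2 ^ k) → ∃ k, orderOf (x : G) = 2 ^ k := fun x ⟨k, hk⟩ =>
    ⟨k, by rw [Subgroup.orderOf_coe, hk]⟩
  obtain ⟨k, hk⟩ := h T (hP.map _) hT1 a b (hN a haN) (hN b hbN) (h2ord a ha) (h2ord b hb)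
  have h1 : LEInvolve.chi (ψ ((a * b) ^ 2 ^ k)) = 1 := by
    refine MonoidHom.mem_ker.2 (LEInvolve.chi_cent (ψ _) fun y hy => ?_)
    obtain ⟨x, hx, rfl⟩ : y ∈ P.map ψ := hmap ▸ hy
    rw [← map_mul, ← map_mul]
    exact congrArg ψ (Subtype.ext (Subgroup.mem_centralizer_iff.1 hk (x : G) ⟨x, hx, rfl⟩).symm)
  rw [map_pow, map_pow, map_mul, map_mul, haψ, hbψ] at h1
  have hd := Nat.dvd_gcd (orderOf_dvd_of_pow_eq_one h1) (orderOf_dvd_of_pow_eq_one swaps_facts.2.2.1)
  rw [Nat.Coprime.gcd_eq_one (Nat.Coprime.pow_left k (by norm_num))] at hd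
  exact swaps_facts.2.2.2 (orderOf_eq_one_iff.1 (Nat.dvd_one.1 hd))

/-- The abelian case. -/
theorem not_sym4_of_comm {G : Type u} [Group G] [Finite G]
    (hab : ∀ P : Sylow 2 G, ∀ a b : P, a * b = b * a) : ¬ Cfsg.Involves Sym4 G := by
  haveI : Fact (Nat.Prime 2) := ⟨Nat.prime_two⟩
  refine not_sym4 fun T hT _ a b ha hb ha2 hb2 => ⟨0, ?_⟩
  have key : ∀ x : G, x ∈ Subgroup.normalizer (T : Set G) → (∃ k, orderOf x = 2 ^ k) →
      x ∈ Subgroup.centralizer (T : Set G) := by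
    intro x hx hx2
    obtain ⟨k, hk⟩ := hx2
    have hz : IsPGroup 2 (Subgroup.zpowers x) := IsPGroup.of_card (n := k) (by rw [Nat.card_zpowers, hk])
    obtain ⟨P, hP⟩ := (hT.to_sup_of_normal_left' hz (Subgroup.zpowers_le.2 hx)).exists_le_sylow
    rw [Subgroup.mem_centralizer_iff]
    intro t ht
    exact congrArg Subtype.val
      (hab P ⟨t, hP (Subgroup.mem_sup_left ht)⟩ ⟨x, hP (Subgroup.mem_sup_right (Subgroup.mem_zpowers x))⟩)
  rw [pow_zero, pow_one]
  exact mul_mem (key a ha ha2) (key b hb hb2)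

/-- An element of order three inverted by an involution generates with it a symmetric group. -/
theorem sym3_of_inverted {G : Type u} [Group G] {x w : G} (hx : x ^ 3 = 1) (hx1 : x ≠ 1) (hw : w * w = 1)
    (hinv : w * x * w⁻¹ = x⁻¹) : Cfsg.Involves Sym3 G := by
  have hwi : w⁻¹ = w := inv_eq_of_mul_eq_one_right hw
  have hxw : ∀ i : ℤ, w * x ^ i * w⁻¹ = x ^ (-i) := fun i => by rw [← conj_zpow, hinv, zpow_neg, inv_zpow]
  have hx3 : orderOf x = 3 := orderOf_eq_prime hx hx1
  have e : ∀ i j : ℤ, (i : ZMod 3) = (j : ZMod 3) → x ^ i = x ^ j := fun i j h => by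
    refine zpow_eq_zpow_iff_modEq.2 ?_
    rw [hx3]
    exact (ZMod.intCast_eq_intCast_iff i j 3).1 h
  have hsw : ∀ i : ℤ, w * x ^ i = x ^ (-i) * w := fun i => by
    rw [← hxw i, inv_mul_cancel_right]
  let f : DihedralGroup 3 → G := fun d =>
    match d with
    | .r i => x ^ (ZMod.cast i : ℤ)
    | .sr i => w * x ^ (ZMod.cast i : ℤ)
  have hmul : ∀ a b, f (a * b) = f a * f b := by
    rintro (i | i) (j | j)
    · simp only [DihedralGroup.r_mul_r, f, ← zpow_add]
      exact e _ _ (by push_cast; ring)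
    · simp only [DihedralGroup.r_mul_sr, f]
      rw [← mul_assoc (x ^ _), show x ^ (ZMod.cast i : ℤ) * w = w * x ^ (-(ZMod.cast i : ℤ)) by
        rw [hsw, neg_neg], mul_assoc, ← zpow_add]
      exact congrArg (w * ·) (e _ _ (by push_cast; ring))
    · simp only [DihedralGroup.sr_mul_r, f, mul_assoc, ← zpow_add]
      exact congrArg (w * ·) (e _ _ (by push_cast; ring))
    · simp only [DihedralGroup.sr_mul_sr, f]
      rw [hsw (ZMod.cast i : ℤ), mul_assoc, ← mul_assoc w, hw, one_mul, ← zpow_add]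
      exact e _ _ (by push_cast; ring)
  let φ : DihedralGroup 3 →* G := MonoidHom.mk' f hmul
  let s : DihedralGroup 3 → Sym3 := fun d =>
    match d with
    | .r i => (Equiv.swap (0 : Fin 3) 1 * Equiv.swap 1 2) ^ i.val
    | .sr i => Equiv.swap (0 : Fin 3) 1 * (Equiv.swap (0 : Fin 3) 1 * Equiv.swap 1 2) ^ i.val
  have hs : (∀ a b, s (a * b) = s a * s b) ∧ Function.Surjective s ∧ Function.Injective s := by
    refine ⟨?_, ?_, ?_⟩ <;> decide +kernel
  refine LEInvolve.involves_of_hom φ (MonoidHom.mk' s hs.1) hs.2.1 fun d hd => ?_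
  rw [MonoidHom.mem_ker] at hd ⊢
  have hd1 : d = 1 := by
    rcases d with i | i
    · have h0 : x ^ (ZMod.cast i : ℤ) = 1 := hd
      rw [← orderOf_dvd_iff_zpow_eq_one, hx3] at h0
      have : (i : ZMod 3) = 0 := by
        rw [← ZMod.intCast_zmod_cast i]
        exact (ZMod.intCast_zmod_eq_zero_iff_dvd _ 3).2 h0
      rw [this]
      rfl
    · have h0 : w * x ^ (ZMod.cast i : ℤ) = 1 := hd
      have hwx : w = x ^ (-(ZMod.cast i : ℤ)) := by
        rw [zpow_neg]
        exact eq_inv_of_mul_eq_one_left h0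
      have h1 : x⁻¹ = x := by
        rw [← hinv, hwx]
        group
      exact absurd (Nat.le_of_dvd (by norm_num) (orderOf_dvd_of_pow_eq_one (x := x) (n := 2)
        (by rw [pow_two]; nth_rewrite 1 [← h1]; exact inv_mul_cancel x))) (by rw [hx3]; norm_num)
  subst hd1
  exact map_one _

/-- In a group with a section `S₃` some 2-element moves a 3-subgroup it normalises. -/
theorem exists_of_sym3 {G : Type u} [Group G] [Finite G] (h : Cfsg.Involves Sym3 G) :
    ∃ P : Subgroup G, IsPGroup 3 P ∧ P ≠ ⊥ ∧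
      ∃ g : G, g ≠ 1 ∧ (∃ k, orderOf g = 2 ^ k) ∧ g ∈ Subgroup.normalizer (P : Set G) := by
  obtain ⟨K, ψ, hψ⟩ := LEInvolve.exists_hom_of_involves h
  haveI : Fact (Nat.Prime 3) := ⟨Nat.prime_three⟩
  obtain ⟨P, hP, hPA, hidx, hlift⟩ := LEInvolve.exists_normalizer_lift ψ hψ 3 (A := alternatingGroup (Fin 3))
  obtain ⟨g, hg, a, ha, hga⟩ := hlift (Equiv.swap 0 1)
  have hs2 := LEInvolve.swap_mul_even_sq a (Equiv.Perm.mem_alternatingGroup.1 ha)
  obtain ⟨c, hc, hcz, hcψ⟩ := exists_two_lift ψ hga hs2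
  have hc1 : c ≠ 1 := by
    intro h1
    rw [h1, map_one] at hcψ
    have hs := congrArg Equiv.Perm.sign hcψ
    rw [map_mul, Equiv.Perm.mem_alternatingGroup.1 ha, Equiv.Perm.sign_swap (by decide)] at hs
    simp at hs
  refine ⟨P.map K.subtype, hP.map _, fun hbot => ?_, (c : G), fun h1 => hc1 (Subtype.ext h1),
    hc.imp fun k hk => by rw [Subgroup.orderOf_coe, hk],
    Subgroup.le_normalizer_map _ ⟨c, Subgroup.zpowers_le.2 hg hcz, rfl⟩⟩
  apply hidx
  rw [(Subgroup.map_eq_bot_iff_of_injective P K.subtype_injective).1 hbot, Subgroup.relIndex_bot_left]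
  have h3 : Nat.card ↥(alternatingGroup (Fin 3)) = 3 := by
    rw [nat_card_alternatingGroup, Nat.card_fin]
    rfl
  refine h3.symm.dvd.trans ?_
  exact Subgroup.card_dvd_of_surjective (ψ.subgroupComap (alternatingGroup (Fin 3)))
    (ψ.subgroupComap_surjective_of_surjective _ hψ)

/-- No section `S₃` when `3` does not divide the order. -/
theorem not_sym3_of_not_three {G : Type u} [Group G] [Finite G] (h : ¬ 3 ∣ Nat.card G) :
    ¬ Cfsg.Involves Sym3 G := fun hinv => by
  haveI : Fact (Nat.Prime 3) := ⟨Nat.prime_three⟩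
  obtain ⟨P, hP, hP1, -⟩ := exists_of_sym3 hinv
  obtain ⟨n, hn⟩ := IsPGroup.iff_card.1 hP
  rcases n with _ | n
  · exact hP1 (Subgroup.card_eq_one.1 (by rw [hn, pow_zero]))
  · exact h ((dvd_pow_self 3 n.succ_ne_zero).trans (hn ▸ Subgroup.card_subgroup_dvd_card P))

/-- No section `S₄` when `3` does not divide the order. -/
theorem not_sym4_of_not_three {G : Type u} [Group G] [Finite G] (h : ¬ 3 ∣ Nat.card G) :
    ¬ Cfsg.Involves Sym4 G := by
  rintro ⟨K, R, hR, ⟨e⟩⟩
  haveI := hR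
  have h1 : Nat.card (K ⧸ R.subgroupOf K) ∣ Nat.card G :=
    (Subgroup.card_quotient_dvd_card _).trans (Subgroup.card_subgroup_dvd_card K)
  rw [Nat.card_congr e.toEquiv, Nat.card_eq_fintype_card, Fintype.card_perm, Fintype.card_fin] at h1
  exact h ((by decide : 3 ∣ Nat.factorial 4).trans h1)

theorem sym3_congr {G : Type u} {H : Type v} [Group G] [Group H] (e : G ≃* H) (h : Cfsg.Involves Sym3 G) :
    Cfsg.Involves Sym3 H := by
  obtain ⟨K, ψ, hψ⟩ := LEInvolve.exists_hom_of_involves h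
  exact LEInvolve.involves_of_hom (e.toMonoidHom.comp K.subtype) ψ hψ fun x hx => by
    have hx1 : x = 1 := Subtype.ext (e.injective (hx.trans (map_one e).symm))
    rw [hx1]
    exact one_mem _

theorem sym4_congr {G : Type u} {H : Type v} [Group G] [Group H] (e : G ≃* H) (h : Cfsg.Involves Sym4 G) :
    Cfsg.Involves Sym4 H := by
  obtain ⟨K, ψ, hψ⟩ := LEInvolve.exists_hom_of_involves h
  exact LEInvolve.involves_of_hom (e.toMonoidHom.comp K.subtype) ψ hψ fun x hx => by
    have hx1 : x = 1 := Subtype.ext (e.injective (hx.trans (map_one e).symm))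
    rw [hx1]
    exact one_mem _

/-- A section of a quotient is a section. -/
theorem sym4_quotient {G : Type u} [Group G] (N : Subgroup G) [N.Normal] (h : Cfsg.Involves Sym4 (G ⧸ N)) :
    Cfsg.Involves Sym4 G := by
  obtain ⟨K, ψ, hψ⟩ := LEInvolve.exists_hom_of_involves h
  let q := QuotientGroup.mk' N
  refine LEInvolve.involves_of_hom (K.comap q).subtype (ψ.comp (q.subgroupComap K))
    (hψ.comp (q.subgroupComap_surjective_of_surjective K (QuotientGroup.mk'_surjective _))) fun x hx => ?_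
  rw [show x = 1 from Subtype.ext hx]
  exact one_mem _

/-- Commutative Sylow subgroups from an involution centralizer of odd index. -/
theorem sylow_comm_of_product {G : Type u} [Group G] [Finite G] {L : Type v} [Group L] [Finite L] {t : G}
    (e : ↥(Subgroup.centralizer ({t} : Set G)) ≃* Multiplicative (ZMod 2) × L)
    (hidx : Odd (Subgroup.centralizer ({t} : Set G)).index)
    (hL : ∀ P : Sylow 2 L, ∀ a b : P, a * b = b * a) :
    ∀ P : Sylow 2 G, ∀ a b : P, a * b = b * a := by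
  haveI : Fact (Nat.Prime 2) := ⟨Nat.prime_two⟩
  set C := Subgroup.centralizer ({t} : Set G) with hC
  obtain ⟨Q⟩ := (inferInstance : Nonempty (Sylow 2 ↥C))
  have hQ2 : IsPGroup 2 ((Q : Subgroup ↥C).map C.subtype) := Q.2.map _
  have hnd : ¬ 2 ∣ ((Q : Subgroup ↥C).map C.subtype).index := by
    rw [Subgroup.index_map_subtype]
    intro h2
    rcases (Nat.prime_two.dvd_mul).1 h2 with h3 | h3
    · exact Q.not_dvd_index h3
    · exact Nat.not_even_iff_odd.2 hidx (even_iff_two_dvd.2 h3)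
  let S : Sylow 2 G := hQ2.toSylow hnd
  have hS : ∀ a ∈ (S : Subgroup G), ∀ b ∈ (S : Subgroup G), a * b = b * a := by
    rintro _ ⟨a, ha, rfl⟩ _ ⟨b, hb, rfl⟩
    rw [← map_mul, ← map_mul]
    refine congrArg C.subtype (e.injective ?_)
    rw [map_mul, map_mul]
    refine Prod.ext (mul_comm (e a).1 (e b).1) ?_
    obtain ⟨R, hR⟩ := (Q.2.map ((MonoidHom.snd _ L).comp e.toMonoidHom)).exists_le_sylow
    exact congrArg Subtype.val
      (hL R ⟨(e a).2, hR ⟨a, ha, rfl⟩⟩ ⟨(e b).2, hR ⟨b, hb, rfl⟩⟩)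
  intro P a b
  let ε := P.equiv S
  refine ε.injective ?_
  rw [map_mul, map_mul]
  exact Subtype.ext (hS _ (ε a).2 _ (ε b).2)

end Cfsg.Agent.GoldGroups
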