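/-
Sections `S₃` and Sylow 2-subgroups of `PSL₂(q)`.
-/
import Cfsg.Agent.Lib.GoldGroups.Criteria
import Cfsg.Agent.Lib.JanThom.PSL2Data
import Cfsg.Agent.Lib.MinNonCA.Two
import Cfsg.Agent.Lib.EPPO.Main
import Mathlib.FieldTheory.Finite.Basic

set_option autoImplicit false
set_option linter.unusedSectionVars false
set_option linter.style.haveILetI false

namespace Cfsg.Agent.GoldGroups

open Matrix

variable {F : Type*} [Field F] [Fintype F]

local notation "SL2" => Matrix.SpecialLinearGroup (Fin 2) F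
local notation "PSL2" => Matrix.ProjectiveSpecialLinearGroup (Fin 2) F

theorem not_center_of_entry {A : SL2} (h : A.1 1 0 ≠ 0) : A ∉ Subgroup.center SL2 := by
  intro hA
  obtain ⟨r, -, hr⟩ := Matrix.SpecialLinearGroup.mem_center_iff.1 hA
  exact h (by rw [← hr]; simp)

theorem neg_one_center {A : SL2} (h : A.1 = !![-1, 0; 0, -1]) : A ∈ Subgroup.center SL2 := by
  refine Matrix.SpecialLinearGroup.mem_center_iff.2 ⟨-1, by simp, ?_⟩
  rw [h]
  ext i j
  fin_cases i <;> fin_cases j <;> simp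

/-- A solution of `a² + ab + b² = -1` gives a section `S₃`. -/
theorem psl2_sym3_of_sol {a b : F} (h : a * a + a * b + b * b = -1) : Cfsg.Involves Sym3 PSL2 := by
  obtain ⟨X, hX⟩ : ∃ X : SL2, X.1 = !![0, -1; 1, -1] := ⟨⟨_, by simp [Matrix.det_fin_two]⟩, rfl⟩
  obtain ⟨W, hW⟩ : ∃ W : SL2, W.1 = !![a, b; a + b, -a] :=
    ⟨⟨!![a, b; a + b, -a], by rw [Matrix.det_fin_two]; simp; linear_combination -h⟩, rfl⟩
  let π : SL2 →* PSL2 := QuotientGroup.mk' (Subgroup.center SL2)
  have hX3 : X * X * X = 1 := Subtype.ext (by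
    rw [Matrix.SpecialLinearGroup.coe_mul, Matrix.SpecialLinearGroup.coe_mul, Matrix.SpecialLinearGroup.coe_one, hX]
    ext i j
    fin_cases i <;> fin_cases j <;> simp [Matrix.mul_apply, Fin.sum_univ_two])
  have hW2 : (W * W).1 = !![-1, 0; 0, -1] := by
    rw [Matrix.SpecialLinearGroup.coe_mul, hW]
    ext i j
    fin_cases i <;> fin_cases j <;> simp [Matrix.mul_apply, Fin.sum_univ_two] <;>
      first | linear_combination h | ring
  have hWX : W * X = X * X * W := Subtype.ext (by
    rw [Matrix.SpecialLinearGroup.coe_mul, Matrix.SpecialLinearGroup.coe_mul, Matrix.SpecialLinearGroup.coe_mul, hX, hW]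
    ext i j
    fin_cases i <;> fin_cases j <;> simp [Matrix.mul_apply, Fin.sum_univ_two] <;> ring)
  refine sym3_of_inverted (x := π X) (w := π W) ?_ ?_ ?_ ?_
  · rw [← map_pow, pow_succ, pow_two, hX3, map_one]
  · intro h1
    exact not_center_of_entry (A := X) (by simp [hX]) ((QuotientGroup.eq_one_iff X).1 h1)
  · rw [← map_mul]
    exact (QuotientGroup.eq_one_iff (W * W)).2 (neg_one_center hW2)
  · rw [← map_inv, ← map_inv, ← map_mul, ← map_mul, hWX, mul_inv_cancel_right]
    exact congrArg π (eq_inv_of_mul_eq_one_left hX3)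

/-- `S₃` is a section of `PSL₂(q)` outside characteristic three. -/
theorem psl2_sym3 (h3 : (3 : F) ≠ 0) : Cfsg.Involves Sym3 PSL2 := by
  by_cases h2 : (2 : F) = 0
  · exact psl2_sym3_of_sol (a := 0) (b := 1) (by linear_combination h2)
  · have hodd : Fintype.card F % 2 = 1 :=
      FiniteField.odd_card_of_char_ne_two fun hc => h2 (by
        haveI := ringChar.charP F
        have h0 := CharP.cast_eq_zero F (ringChar F)
        rw [hc] at h0
        exact_mod_cast h0)
    obtain ⟨u, v, huv⟩ := FiniteField.exists_root_sum_quadratic (f := (Polynomial.X : Polynomial F) ^ 2)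
      (g := Polynomial.C (3 : F) * Polynomial.X ^ 2 + Polynomial.C 4) (Polynomial.degree_X_pow 2)
      (by rw [Polynomial.degree_add_C (by rw [Polynomial.degree_C_mul_X_pow 2 h3]; norm_num),
        Polynomial.degree_C_mul_X_pow 2 h3]; rfl)
      hodd
    simp only [Polynomial.eval_pow, Polynomial.eval_X, Polynomial.eval_add, Polynomial.eval_mul, Polynomial.eval_C] at huv
    refine psl2_sym3_of_sol (a := (u - v) / 2) (b := v) ?_
    field_simp
    linear_combination huv

theorem sylow_comm_map {X Y : Type*} [Group X] [Finite X] [Group Y] {f : X →* Y}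
    (hf : Function.Surjective f) (hX : ∀ P : Sylow 2 X, ∀ a b : P, a * b = b * a) :
    ∀ P : Sylow 2 Y, ∀ a b : P, a * b = b * a := by
  haveI : Fact (Nat.Prime 2) := ⟨Nat.prime_two⟩
  haveI : Finite Y := Finite.of_surjective f hf
  obtain ⟨Q⟩ := (inferInstance : Nonempty (Sylow 2 X))
  intro P a b
  let S : Sylow 2 Y := Q.mapSurjective hf
  let ε := P.equiv S
  refine ε.injective ?_
  rw [map_mul, map_mul]
  obtain ⟨a', ha', ea⟩ := (ε a).2
  obtain ⟨b', hb', eb⟩ := (ε b).2
  refine Subtype.ext ?_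
  show (ε a : Y) * (ε b : Y) = (ε b : Y) * (ε a : Y)
  rw [← ea, ← eb, ← map_mul, ← map_mul]
  exact congrArg f (congrArg Subtype.val (hX Q ⟨a', ha'⟩ ⟨b', hb'⟩))

/-- Characteristic two: the Sylow 2-subgroups are commutative. -/
theorem psl2_sylow_comm_two {F : Type} [Field F] [Fintype F] [CharP F 2] (h4 : 4 < Fintype.card F) :
    ∀ P : Sylow 2 (Matrix.ProjectiveSpecialLinearGroup (Fin 2) F), ∀ a b : P, a * b = b * a :=
  sylow_comm_map (f := QuotientGroup.mk' _) (QuotientGroup.mk'_surjective _) fun P a b =>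
    (MinNonCA.sylow_comm F h4 (MonoidHom.id _) Function.surjective_id
      (by rw [MonoidHom.ker_id]; exact bot_le) P).is_comm.comm a b

theorem card_psl2_odd (hodd : Odd (Fintype.card F)) :
    2 * Nat.card PSL2 = (Fintype.card F ^ 2 - 1) * Fintype.card F := by
  have h := EPPO.card_psl_two F
  rwa [Nat.gcd_eq_left (by obtain ⟨k, hk⟩ := hodd; omega)] at h

/-- `q ≡ ±3 (mod 8)`: the Sylow 2-subgroups are commutative. -/
theorem psl2_sylow_comm_odd (h8 : Fintype.card F % 8 = 3 ∨ Fintype.card F % 8 = 5) :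
    ∀ P : Sylow 2 PSL2, ∀ a b : P, a * b = b * a := by
  haveI : Fact (Nat.Prime 2) := ⟨Nat.prime_two⟩
  intro P
  have h := card_psl2_odd (F := F) (Nat.odd_iff.2 (by omega))
  obtain ⟨j, hj⟩ : ∃ j, Fintype.card F = 8 * j + 3 ∨ Fintype.card F = 8 * j + 5 :=
    ⟨Fintype.card F / 8, by omega⟩
  obtain ⟨m, hm, hc⟩ : ∃ m, m % 2 = 1 ∧ Nat.card PSL2 = 4 * m := by
    rcases hj with e | e
    · refine ⟨(8 * j ^ 2 + 6 * j + 1) * (8 * j + 3), by simp [Nat.mul_mod, Nat.add_mod, Nat.pow_mod], ?_⟩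
      rw [e] at h
      have e2 : (8 * j + 3) ^ 2 - 1 = 8 * (8 * j ^ 2 + 6 * j + 1) := by
        have : (8 * j + 3) ^ 2 = 8 * (8 * j ^ 2 + 6 * j + 1) + 1 := by ring
        omega
      rw [e2] at h
      linarith
    · refine ⟨(8 * j ^ 2 + 10 * j + 3) * (8 * j + 5), by simp [Nat.mul_mod, Nat.add_mod, Nat.pow_mod], ?_⟩
      rw [e] at h
      have e2 : (8 * j + 5) ^ 2 - 1 = 8 * (8 * j ^ 2 + 10 * j + 3) := by
        have : (8 * j + 5) ^ 2 = 8 * (8 * j ^ 2 + 10 * j + 3) + 1 := by ring
        omega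
      rw [e2] at h
      linarith
  have hP : Nat.card P = 2 ^ 2 := by
    rw [P.card_eq_multiplicity, hc, Nat.factorization_mul (by norm_num) (by omega),
      show (4 : ℕ) = 2 ^ 2 by norm_num, Nat.Prime.factorization_pow Nat.prime_two]
    simp [Nat.factorization_eq_zero_of_not_dvd (show ¬ 2 ∣ m by omega)]
  exact IsPGroup.commutative_of_card_eq_prime_sq hP

/-- No section `S₃` in `PSL₂(3^(2n+1))`. -/
theorem psl2_not_sym3 {n : ℕ} (hq : Fintype.card F = 3 ^ (2 * n + 1)) : ¬ Cfsg.Involves Sym3 PSL2 := by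
  intro hinv
  haveI : Fact (Nat.Prime 3) := ⟨Nat.prime_three⟩
  haveI : CharP F 3 := charP_of_card_eq_prime_pow hq
  obtain ⟨P, hP, hP1, g, hg1, ⟨k, hk⟩, hgN⟩ := exists_of_sym3 hinv
  have h8 : Fintype.card F % 8 = 3 := by
    rw [hq, pow_succ, pow_mul, Nat.mul_mod, Nat.pow_mod]
    norm_num
  have hodd : Odd (Fintype.card F) := Nat.odd_iff.2 (by omega)
  have hcard := card_psl2_odd (F := F) hodd
  obtain ⟨z, hzP, hz1⟩ : ∃ z ∈ P, z ≠ 1 := P.bot_or_exists_ne_one.resolve_left hP1
  rcases Nat.eq_zero_or_pos n with rfl | hn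
  · -- order twelve
    norm_num at hq
    rw [hq] at hcard
    norm_num at hcard
    have hc : Nat.card PSL2 = 12 := by omega
    obtain ⟨R, hR⟩ := hP.exists_le_sylow
    have hR3 : Nat.card R = 3 := by
      rw [R.card_eq_multiplicity, hc, show (12 : ℕ) = 3 ^ 1 * 4 by norm_num,
        Nat.factorization_mul (by norm_num) (by norm_num), Nat.Prime.factorization_pow Nat.prime_three]
      simp [Nat.factorization_eq_zero_of_not_dvd (show ¬ 3 ∣ 4 by norm_num)]
    have hPR : P = (R : Subgroup PSL2) := by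
      refine Subgroup.eq_of_le_of_card_ge hR ?_
      rw [hR3]
      obtain ⟨i, hi⟩ := IsPGroup.iff_card.1 hP
      rcases i with _ | i
      · exact absurd (Subgroup.card_eq_one.1 (by rw [hi, pow_zero])) hP1
      · rw [hi]; exact Nat.le_self_pow i.succ_ne_zero 3
    set N := Subgroup.normalizer (P : Set PSL2) with hN
    have h2N : 2 ∣ Nat.card N := by
      rcases k with _ | k
      · exact absurd (orderOf_eq_one_iff.1 (by rw [hk, pow_zero])) hg1
      · have hdvd := orderOf_dvd_natCard (⟨g, hgN⟩ : N)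
        rw [Subgroup.orderOf_mk, hk] at hdvd
        exact (dvd_pow_self 2 k.succ_ne_zero).trans hdvd
    have h3N : 3 ∣ Nat.card N := by
      rw [← hR3]
      exact Subgroup.card_dvd_of_le (hPR ▸ Subgroup.le_normalizer)
    have hidx := N.card_mul_index
    have h6 : 6 ∣ Nat.card N := Nat.Coprime.mul_dvd_of_dvd_of_dvd (by norm_num : Nat.Coprime 2 3) h2N h3N
    have hs : Nat.card (Sylow 3 PSL2) = 1 := by
      have h1 : Nat.card (Sylow 3 PSL2) = N.index := by
        rw [hN, hPR]
        exact R.card_eq_index_normalizer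
      have h2 := card_sylow_modEq_one 3 PSL2
      rw [h1] at h2 ⊢
      obtain ⟨d, hd⟩ := h6
      rw [hd, hc] at hidx
      have h3 : d * N.index = 2 := by linarith
      have h4 : N.index ∣ 2 := ⟨d, by linarith⟩
      rcases (Nat.dvd_prime Nat.prime_two).1 h4 with e | e
      · exact e
      · rw [e] at h2
        exact absurd h2 (by decide)
    haveI : Subsingleton (Sylow 3 PSL2) := (Nat.card_eq_one_iff_unique.1 hs).1
    haveI : (R : Subgroup PSL2).Normal := R.normal_of_subsingleton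
    obtain ⟨U, hUv⟩ : ∃ A : SL2, A.1 = !![1, 1; 0, 1] := ⟨⟨_, by simp [Matrix.det_fin_two]⟩, rfl⟩
    obtain ⟨L, hLv⟩ : ∃ A : SL2, A.1 = !![1, 0; 1, 1] := ⟨⟨_, by simp [Matrix.det_fin_two]⟩, rfl⟩
    have h30 : (3 : F) = 0 := by exact_mod_cast CharP.cast_eq_zero F 3
    let π : SL2 →* PSL2 := QuotientGroup.mk' (Subgroup.center SL2)
    have hmem : ∀ A : SL2, A * A * A = 1 → π A ∈ (R : Subgroup PSL2) := by
      intro A hA
      have hz : IsPGroup 3 (Subgroup.zpowers (π A)) := by
        obtain ⟨i, -, hi⟩ := (Nat.dvd_prime_pow Nat.prime_three).1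
          (orderOf_dvd_of_pow_eq_one (x := π A) (n := 3 ^ 1)
            (by rw [pow_one, pow_succ, pow_two, ← map_mul, ← map_mul, hA, map_one]))
        exact IsPGroup.of_card (n := i) (by rw [Nat.card_zpowers, hi])
      obtain ⟨R', hR'⟩ := hz.exists_le_sylow
      rw [Subsingleton.elim R R']
      exact hR' (Subgroup.mem_zpowers _)
    have hU := hmem U (Subtype.ext (by
      rw [Matrix.SpecialLinearGroup.coe_mul, Matrix.SpecialLinearGroup.coe_mul, Matrix.SpecialLinearGroup.coe_one, hUv]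
      ext i j
      fin_cases i <;> fin_cases j <;> simp [Matrix.mul_apply, Fin.sum_univ_two]
      linear_combination h30))
    have hL := hmem L (Subtype.ext (by
      rw [Matrix.SpecialLinearGroup.coe_mul, Matrix.SpecialLinearGroup.coe_mul, Matrix.SpecialLinearGroup.coe_one, hLv]
      ext i j
      fin_cases i <;> fin_cases j <;> simp [Matrix.mul_apply, Fin.sum_univ_two]
      linear_combination h30))
    haveI : IsCyclic R := isCyclic_of_prime_card hR3
    have hcomm : π U * π L = π L * π U :=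
      congrArg Subtype.val ((IsCyclic.commutative (α := R)).is_comm.comm (⟨π U, hU⟩ : R) ⟨π L, hL⟩)
    rw [← map_mul, ← map_mul] at hcomm
    obtain ⟨c, hc', hce⟩ := (QuotientGroup.mk'_eq_mk' (Subgroup.center SL2)).1 hcomm
    obtain ⟨r, -, hr⟩ := Matrix.SpecialLinearGroup.mem_center_iff.1 hc'
    have e01 := congrFun (congrFun (congrArg Subtype.val hce) 0) 1
    have e00 := congrFun (congrFun (congrArg Subtype.val hce) 0) 0
    simp [Matrix.SpecialLinearGroup.coe_mul, ← hr, hUv, hLv, Matrix.mul_apply, Fin.sum_univ_two] at e01 e00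
    exact one_ne_zero (show (1 : F) = 0 by linear_combination e00 - 2 * e01)
  · have h11 : 11 ≤ Fintype.card F := by
      rw [hq]
      have : 3 ^ 3 ≤ 3 ^ (2 * n + 1) := Nat.pow_le_pow_right (by norm_num) (by omega)
      omega
    obtain ⟨D⟩ := JanThom.exists_lData (F := F) (Or.inl h8) h11
    have hQ : (if Fintype.card F % 8 = 3 then (Fintype.card F : ℤ) else -(Fintype.card F : ℤ)).natAbs =
        Fintype.card F := by rw [if_pos h8, Int.natAbs_natCast]
    have hU : Nat.card D.U = 3 ^ (2 * n + 1) := by rw [D.card_U, hQ, hq]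
    have hnd : ¬ 3 ∣ D.U.index := by
      intro hd
      have hmul := D.U.card_mul_index
      rw [hU] at hmul
      rw [hq] at hcard
      obtain ⟨d, hd⟩ := hd
      rw [hd] at hmul
      have hpos : 0 < 3 ^ (2 * n + 1) := by positivity
      have h1 : (3 ^ (2 * n + 1)) ^ 2 - 1 = 2 * (3 * d) := by
        apply Nat.eq_of_mul_eq_mul_left hpos
        rw [← hmul] at hcard
        linarith
      have h2 : 3 ∣ (3 ^ (2 * n + 1)) ^ 2 := dvd_pow (dvd_pow_self 3 (by omega)) two_ne_zero
      have h3 : 1 ≤ (3 ^ (2 * n + 1)) ^ 2 := Nat.one_le_pow _ _ hpos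
      omega
    let UU : Sylow 3 PSL2 := (IsPGroup.of_card hU).toSylow hnd
    obtain ⟨R, hR⟩ := hP.exists_le_sylow
    obtain ⟨x, hx⟩ := MulAction.exists_smul_eq PSL2 R UU
    have hconj : ∀ y ∈ P, x * y * x⁻¹ ∈ D.U := fun y hy => by
      have : x * y * x⁻¹ ∈ ((x • R : Sylow 3 PSL2) : Subgroup PSL2) := by
        rw [Sylow.coe_subgroup_smul, Subgroup.mem_pointwise_smul_iff_inv_smul_mem]
        simpa [MulAut.smul_def, mul_assoc] using hR hy
      rw [hx] at this
      exact this
    have hN := D.ti_u _ (hconj z hzP) (by simpa using hz1) (x * g * x⁻¹) (by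
      rw [show x * g * x⁻¹ * (x * z * x⁻¹) * (x * g * x⁻¹)⁻¹ = x * (g * z * g⁻¹) * x⁻¹ by group]
      exact hconj _ ((Subgroup.mem_normalizer_iff.1 hgN z).1 hzP))
    have hodd' : Odd (Nat.card (Subgroup.normalizer (D.U : Set PSL2))) := by
      have h := D.card_NU
      rw [hQ] at h
      obtain ⟨a, ha⟩ : ∃ a, Fintype.card F = 8 * a + 3 := ⟨Fintype.card F / 8, by omega⟩
      rw [show Fintype.card F - 1 = 2 * (4 * a + 1) by omega] at h
      have h' : Nat.card (Subgroup.normalizer (D.U : Set PSL2)) = Fintype.card F * (4 * a + 1) := by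
        linarith
      rw [h', Nat.odd_mul]
      exact ⟨hodd, ⟨2 * a, by ring⟩⟩
    have hd := orderOf_dvd_natCard (⟨x * g * x⁻¹, hN⟩ : Subgroup.normalizer (D.U : Set PSL2))
    rw [Subgroup.orderOf_mk, show orderOf (x * g * x⁻¹) = orderOf g from
      MulEquiv.orderOf_eq (MulAut.conj x) g, hk] at hd
    rcases k with _ | k
    · exact hg1 (orderOf_eq_one_iff.1 (by rw [hk, pow_zero]))
    · exact Nat.not_even_iff_odd.2 hodd' (even_iff_two_dvd.2 ((dvd_pow_self 2 k.succ_ne_zero).trans hd))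

end Cfsg.Agent.GoldGroups
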