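/-
A group of Ree type involves `S₃`: an involution inverts an element of order three.
-/
import Cfsg.Agent.Lib.GoldGroups.SL2
import Cfsg.Agent.S0343
import Cfsg.Agent.Lib.Solvable.Coprime
import Mathlib.GroupTheory.Transfer

set_option autoImplicit false
set_option linter.unusedSectionVars false
set_option linter.style.haveILetI false

namespace Cfsg.Agent.GoldGroups

open Subgroup

/-- The shape of the involution centralizer of a group of Ree type. -/
theorem ree_hom {G : Type*} [Group G] [Finite G] (h : Cfsg.IsReeType G) :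
    IsSimpleGroup G ∧ ∃ (t : G) (n : ℕ) (F : Type) (_ : Field F) (_ : Fintype F)
      (φ : Multiplicative (ZMod 2) × Matrix.ProjectiveSpecialLinearGroup (Fin 2) F →* G),
      1 ≤ n ∧ orderOf t = 2 ∧ Fintype.card F = 3 ^ (2 * n + 1) ∧
      Odd (centralizer ({t} : Set G)).index ∧ Function.Injective φ ∧
      φ.range = centralizer ({t} : Set G) ∧ φ (Multiplicative.ofAdd 1, 1) = t := by
  obtain ⟨hs, -, t, K, n, hn, ht, hidx, ⟨-, -, hcomm, hdisj, hsup⟩, F, hF1, hF2, hF, ⟨e⟩⟩ := h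
  refine ⟨hs, t, n, F, hF1, hF2, ?_⟩
  let ε : Multiplicative (ZMod 2) ≃* zpowers t := mulEquivOfCyclicCardEq (by
    rw [Nat.card_zpowers, ht]; simp)
  let ι₁ : Multiplicative (ZMod 2) →* G := (zpowers t).subtype.comp ε.toMonoidHom
  let ι₂ : Matrix.ProjectiveSpecialLinearGroup (Fin 2) F →* G := K.subtype.comp e.symm.toMonoidHom
  have hc : ∀ a l, Commute (ι₁ a) (ι₂ l) := fun a l => hcomm _ (ε a).2 _ (e.symm l).2
  let φ := MonoidHom.noncommCoprod ι₁ ι₂ hc
  have hr1 : ι₁.range = zpowers t := by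
    apply le_antisymm
    · rintro _ ⟨a, rfl⟩; exact (ε a).2
    · intro x hx; exact ⟨ε.symm ⟨x, hx⟩, by simp [ι₁]⟩
  have hr2 : ι₂.range = K := by
    apply le_antisymm
    · rintro _ ⟨a, rfl⟩; exact (e.symm a).2
    · intro x hx; exact ⟨e ⟨x, hx⟩, by simp [ι₂]⟩
  have hinj : Function.Injective φ := by
    rw [MonoidHom.noncommCoprod_injective]
    refine ⟨fun a b hab => ε.injective (Subtype.ext hab),
      fun a b hab => e.symm.injective (Subtype.ext hab), ?_⟩
    rw [hr1, hr2]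
    exact disjoint_iff.2 hdisj
  refine ⟨φ, hn, ht, hF, hidx, hinj, ?_, ?_⟩
  · rw [MonoidHom.noncommCoprod_range, hr1, hr2, hsup]
  · have h1 : ι₁ (Multiplicative.ofAdd 1) ≠ 1 := fun h =>
      (by decide : (Multiplicative.ofAdd 1 : Multiplicative (ZMod 2)) ≠ 1)
        (ε.injective (Subtype.ext (h.trans (by simp))))
    show ι₁ (Multiplicative.ofAdd 1) * ι₂ 1 = t
    rw [show ι₂ 1 = 1 from map_one ι₂, mul_one]
    obtain ⟨k, hk⟩ := mem_zpowers_iff.1 (ε (Multiplicative.ofAdd 1)).2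
    rw [show ι₁ (Multiplicative.ofAdd 1) = t ^ k from hk.symm] at h1 ⊢
    rw [← zpow_mod_orderOf, ht] at h1 ⊢
    rcases Int.emod_two_eq k with h | h <;> simp [h] at h1 ⊢

theorem eq_one_of_two_three {M : Type*} [Group M] {x : M} {i j : ℕ} (h2 : x ^ 2 ^ i = 1) (h3 : x ^ 3 ^ j = 1) :
    x = 1 := by
  have h := Nat.dvd_gcd (orderOf_dvd_of_pow_eq_one h2) (orderOf_dvd_of_pow_eq_one h3)
  rw [Nat.Coprime.gcd_eq_one (Nat.Coprime.pow i j (by norm_num))] at h
  exact orderOf_eq_one_iff.1 (Nat.dvd_one.1 h)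

theorem ree_sylow_comm {G : Type*} [Group G] [Finite G] (h : Cfsg.IsReeType G) :
    ∀ P : Sylow 2 G, ∀ a b : P, a * b = b * a := by
  obtain ⟨-, t, n, F, _, _, φ, -, -, hF, hidx, hφ, hrange, -⟩ := ree_hom h
  refine sylow_comm_of_product ((MulEquiv.subgroupCongr hrange.symm).trans (MonoidHom.ofInjective hφ).symm) hidx
    (psl2_sylow_comm_odd (Or.inl ?_))
  rw [hF, pow_succ, pow_mul, Nat.mul_mod, Nat.pow_mod]
  norm_num

theorem ree_sym3 {G : Type*} [Group G] [Finite G] (h : Cfsg.IsReeType G) : Cfsg.Involves Sym3 G := by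
  classical
  haveI : Fact (Nat.Prime 2) := ⟨Nat.prime_two⟩
  haveI : Fact (Nat.Prime 3) := ⟨Nat.prime_three⟩
  have hab := ree_sylow_comm h
  obtain ⟨hsimp, t, n, F, _, _, φ, hn, ht, hF, -, hφ, hrange, hφt⟩ := ree_hom h
  haveI := hsimp
  obtain ⟨r, hr⟩ : ∃ r, r = 2 * n + 1 := ⟨_, rfl⟩
  have hq : Fintype.card F = 3 ^ r := hr ▸ hF
  have h8 : Fintype.card F % 8 = 3 := by
    rw [hF, pow_succ, pow_mul, Nat.mul_mod, Nat.pow_mod]
    norm_num
  have h27 : 27 ≤ Fintype.card F := by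
    rw [hq, show (27 : ℕ) = 3 ^ 3 by norm_num]
    exact Nat.pow_le_pow_right (by norm_num) (by omega)
  -- the order
  obtain ⟨m, hm, hm', hcardG⟩ | ⟨h45, -⟩ := Cfsg.Agent.S0343.result hab (F := F) (by omega) t ht
    ⟨(MulEquiv.subgroupCongr hrange.symm).trans (MonoidHom.ofInjective hφ).symm⟩
  swap
  · omega
  obtain ⟨D⟩ := JanThom.exists_lData (F := F) (Or.inl h8) (by omega)
  have hQ : (if Fintype.card F % 8 = 3 then (Fintype.card F : ℤ) else -(Fintype.card F : ℤ)).natAbs =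
      Fintype.card F := by rw [if_pos h8, Int.natAbs_natCast]
  have hp : D.p = 3 := by
    have e : 3 ^ r = D.p ^ D.n := by rw [← D.abs_Q, hQ, hq]
    have hd : 3 ∣ D.p ^ D.n := e ▸ dvd_pow_self 3 (by omega)
    exact ((Nat.prime_dvd_prime_iff_eq Nat.prime_three D.prime_p).1 (Nat.prime_three.dvd_of_dvd_pow hd)).symm
  set j := φ.comp (MonoidHom.inr (Multiplicative (ZMod 2)) (Matrix.ProjectiveSpecialLinearGroup (Fin 2) F))
    with hj
  have hjinj : Function.Injective j := fun a b hab => congrArg Prod.snd (hφ hab)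
  set V := D.U.map j with hV
  have hVc : Nat.card V = 3 ^ r := by rw [hV, card_map_of_injective hjinj, D.card_U, hQ, hq]
  obtain ⟨z, hzU, hz1⟩ : ∃ z ∈ D.U, z ≠ 1 := by
    refine D.U.bot_or_exists_ne_one.resolve_left fun hb => ?_
    have hc := D.card_U
    rw [hb, Subgroup.card_bot, hQ] at hc
    omega
  -- the shape of elements of the centralizer
  have hC : ∀ g : G, g * t = t * g → ∃ a l, φ (a, l) = g := fun g hg => by
    obtain ⟨⟨a, l⟩, e⟩ : g ∈ φ.range := hrange ▸ mem_centralizer_singleton_iff.2 hg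
    exact ⟨a, l, e⟩
  have hzm : ∀ l, φ (1, l) = j l := fun l => rfl
  have hcent : ∀ a l, φ (a, l) ∈ centralizer (V : Set G) → l ∈ D.U := by
    intro a l hg
    have e := mem_centralizer_iff.1 hg (j z) ⟨z, hzU, rfl⟩
    rw [← hzm, ← map_mul, ← map_mul] at e
    exact D.cent_u z hzU hz1 l (congrArg Prod.snd (hφ e)).symm
  have hnorm : ∀ a l, φ (a, l) ∈ normalizer (V : Set G) → l ∈ normalizer (D.U : Set _) := by
    intro a l hg
    refine D.ti_u z hzU hz1 l ?_
    obtain ⟨y, hy, e⟩ := (mem_normalizer_iff.1 hg (j z)).1 ⟨z, hzU, rfl⟩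
    rw [← hzm, ← hzm, ← map_inv, ← map_mul, ← map_mul] at e
    have e2 : y = l * z * l⁻¹ := congrArg Prod.snd (hφ e)
    exact e2 ▸ hy
  have htV : ∀ v ∈ V, v * t = t * v := by
    rintro _ ⟨l, -, rfl⟩
    rw [← hzm, ← hφt, ← map_mul, ← map_mul]
    exact congrArg φ (Prod.ext (mul_comm _ _) ((mul_one l).trans (one_mul l).symm))
  set N := normalizer (V : Set G) with hN
  set CV := centralizer (V : Set G) with hCV
  have htC : t ∈ CV := mem_centralizer_iff.2 htV
  have hNC : ∀ g ∈ N, ∀ c ∈ CV, g * c * g⁻¹ ∈ CV := by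
    intro g hg c hc
    rw [hCV, mem_centralizer_iff]
    intro v hv
    have hv' : g⁻¹ * v * g ∈ V := by
      have := (mem_normalizer_iff.1 (inv_mem hg) v).1 hv
      rwa [inv_inv] at this
    calc v * (g * c * g⁻¹) = g * ((g⁻¹ * v * g) * c) * g⁻¹ := by group
      _ = g * (c * (g⁻¹ * v * g)) * g⁻¹ := by rw [mem_centralizer_iff.1 hc _ hv']
      _ = g * c * g⁻¹ * v := by group
  -- the Sylow 2-subgroup of the centralizer
  have htne : t ≠ 1 := fun h => by rw [h, orderOf_one] at ht; norm_num at ht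
  have hsmall : ∀ x ∈ CV, x * t = t * x → (∃ i, x ^ 2 ^ i = 1) → x = 1 ∨ x = t := by
    rintro x hx hxt ⟨i, hi⟩
    obtain ⟨a, l, rfl⟩ := hC x hxt
    rw [← map_pow, ← map_one φ] at hi
    have hl : l ^ 2 ^ i = 1 := congrArg Prod.snd (hφ hi)
    have hl1 : l = 1 := eq_one_of_two_three hl (j := 1) (by
      rw [pow_one, ← hp]; exact D.U_exp l (hcent a l hx))
    subst hl1
    rcases JanThom.z2_cases a with rfl | rfl
    · exact Or.inl (map_one φ)
    · exact Or.inr hφt
  obtain ⟨P, hP⟩ := (IsPGroup.of_card (n := 1) (G := zpowers (⟨t, htC⟩ : CV)) (by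
    rw [Nat.card_zpowers, Subgroup.orderOf_mk, ht, pow_one])).exists_le_sylow
  have hPmem : ∀ x ∈ (P : Subgroup CV), x = 1 ∨ x = ⟨t, htC⟩ := by
    intro x hx
    obtain ⟨R, hR⟩ := (P.2.map CV.subtype).exists_le_sylow
    have e : (x : G) * t = t * x := congrArg Subtype.val
      (hab R ⟨x, hR ⟨x, hx, rfl⟩⟩ ⟨t, hR ⟨⟨t, htC⟩, hP (mem_zpowers _), rfl⟩⟩)
    obtain ⟨i, hi⟩ := P.2 ⟨x, hx⟩
    rcases hsmall x x.2 e ⟨i, by simpa using congrArg (fun y : P => ((y : CV) : G)) hi⟩ with h | h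
    · exact Or.inl (Subtype.ext h)
    · exact Or.inr (Subtype.ext h)
  have hPn : normalizer ((P : Subgroup CV) : Set CV) ≤ centralizer ((P : Subgroup CV) : Set CV) := by
    intro g hg
    rw [mem_centralizer_iff]
    intro x hx
    rcases hPmem x hx with rfl | rfl
    · rw [one_mul, mul_one]
    · rcases hPmem _ ((mem_normalizer_iff.1 hg _).1 hx) with h | h
      · exact absurd (congrArg Subtype.val (conj_eq_one_iff.1 h)) htne
      · rw [← mul_inv_eq_iff_eq_mul.1 h]
  set K := (MonoidHom.transferSylow P hPn).ker with hK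
  have hKc : ¬ 2 ∣ Nat.card K := MonoidHom.not_dvd_card_ker_transferSylow P hPn
  have hcomp := (MonoidHom.ker_transferSylow_isComplement' P hPn).card_mul_card
  have hP2 : Nat.card (P : Subgroup CV) = 2 := by
    have hz : (P : Subgroup CV) = zpowers (⟨t, htC⟩ : CV) := by
      refine le_antisymm (fun x hx => ?_) hP
      rcases hPmem x hx with rfl | rfl
      exacts [one_mem _, mem_zpowers _]
    rw [hz, Nat.card_zpowers, Subgroup.orderOf_mk, ht]
  -- three-elements of the normalizer centralize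
  have hNidx : ∀ l ∈ normalizer (D.U : Set _), l ^ ((3 ^ r - 1) / 2) ∈ D.U := by
    intro l hl
    haveI : (D.U.subgroupOf (normalizer (D.U : Set _))).Normal := normal_in_normalizer
    have hi : (D.U.subgroupOf (normalizer (D.U : Set _))).index = (3 ^ r - 1) / 2 := by
      have h1 := (D.U.subgroupOf (normalizer (D.U : Set _))).card_mul_index
      rw [Nat.card_congr (subgroupOfEquivOfLe le_normalizer).toEquiv, D.card_U] at h1
      have h2 := D.card_NU
      rw [← h1, hQ] at h2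
      have hpos : 0 < Fintype.card F := Fintype.card_pos
      have h3 : 2 * (D.U.subgroupOf (normalizer (D.U : Set _))).index = Fintype.card F - 1 :=
        Nat.eq_of_mul_eq_mul_left hpos (by linarith)
      omega
    have := (D.U.subgroupOf (normalizer (D.U : Set _))).pow_index_mem ⟨l, hl⟩
    rw [hi] at this
    simpa [mem_subgroupOf] using this
  have hthree : ∀ g ∈ N, (∃ i, g ^ 3 ^ i = 1) → g ∈ CV := by
    rintro g hg ⟨i, hi⟩
    have ht' : g * t * g⁻¹ ∈ CV := hNC g hg t htC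
    obtain ⟨R, hR⟩ := (IsPGroup.of_card (p := 2) (n := 1) (G := zpowers (⟨g * t * g⁻¹, ht'⟩ : CV)) (by
      rw [Nat.card_zpowers, Subgroup.orderOf_mk, pow_one]
      exact (MulEquiv.orderOf_eq (MulAut.conj g) t).trans ht)).exists_le_sylow
    obtain ⟨c, hc⟩ := MulAction.exists_smul_eq CV R P
    have hmem : c * ⟨g * t * g⁻¹, ht'⟩ * c⁻¹ ∈ (P : Subgroup CV) := by
      rw [← hc, Sylow.coe_subgroup_smul, mem_pointwise_smul_iff_inv_smul_mem]
      simpa [MulAut.smul_def, mul_assoc] using hR (mem_zpowers _)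
    rcases hPmem _ hmem with h | h
    · exact absurd (congrArg Subtype.val (conj_eq_one_iff.1 h))
        (fun e => htne (by simpa using conj_eq_one_iff.1 (e : g * t * g⁻¹ = 1)))
    · have e : (c : G) * (g * t * g⁻¹) * (c : G)⁻¹ = t := congrArg Subtype.val h
      set x := (c : G) * g with hx
      have hxt : x * t = t * x := by
        have : x * t * x⁻¹ = t := by rw [hx]; simpa [mul_assoc] using e
        exact mul_inv_eq_iff_eq_mul.1 this
      have hCN : (c : G) ∈ N := centralizer_le_normalizer _ c.2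
      obtain ⟨a, l, hal⟩ := hC x hxt
      have hl := hNidx l (hnorm a l (hal ▸ mul_mem hCN hg))
      have hxC : x ^ (3 ^ r - 1) ∈ CV := by
        have hev : 3 ^ r - 1 = (3 ^ r - 1) / 2 * 2 := by omega
        rw [← hal, ← map_pow, show (a, l) ^ (3 ^ r - 1) = (1, l ^ (3 ^ r - 1)) from Prod.ext (by
          show a ^ (3 ^ r - 1) = 1
          rw [hev, pow_mul', pow_two, JanThom.z2_sq, one_pow]) rfl, hev, pow_mul, hzm]
        rw [hCV, mem_centralizer_iff]
        rintro _ ⟨u, hu, rfl⟩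
        rw [← map_mul, ← map_mul, D.U_comm u hu _ (pow_mem hl 2)]
      haveI : (CV.subgroupOf N).Normal := ⟨fun c hc g => hNC g g.2 c hc⟩
      let π := QuotientGroup.mk' (CV.subgroupOf N)
      have h1 : π ⟨g, hg⟩ = π ⟨x, mul_mem hCN hg⟩ := by
        rw [show (⟨x, mul_mem hCN hg⟩ : N) = ⟨c, hCN⟩ * ⟨g, hg⟩ from rfl, map_mul,
          show π ⟨c, hCN⟩ = 1 from (QuotientGroup.eq_one_iff _).2 c.2, one_mul]
      have h2 : π ⟨g, hg⟩ ^ (3 ^ r - 1) = 1 := by
        rw [h1, ← map_pow]; exact (QuotientGroup.eq_one_iff _).2 hxC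
      have h3 : π ⟨g, hg⟩ ^ 3 ^ i = 1 := by
        rw [← map_pow, show (⟨g, hg⟩ : N) ^ 3 ^ i = 1 from Subtype.ext hi, map_one]
      have hd := Nat.dvd_gcd (orderOf_dvd_of_pow_eq_one h2) (orderOf_dvd_of_pow_eq_one h3)
      have hco : Nat.Coprime (3 ^ r - 1) (3 ^ i) := by
        refine Nat.Coprime.pow_right i ((Nat.Prime.coprime_iff_not_dvd Nat.prime_three).2 fun h3 => ?_).symm
        have : 3 ∣ 3 ^ r := dvd_pow_self 3 (by omega)
        omega
      rw [hco.gcd_eq_one] at hd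
      exact (QuotientGroup.eq_one_iff (N := CV.subgroupOf N) ⟨g, hg⟩).1
        (orderOf_eq_one_iff.1 (Nat.dvd_one.1 hd))
  -- a larger three-subgroup
  have hN3 : 3 ^ (r + 1) ∣ Nat.card N := by
    refine Sylow.prime_pow_dvd_card_normalizer ?_ hVc
    rw [hcardG, ← hm', hq, ← pow_mul]
    exact Dvd.dvd.mul_right (Dvd.dvd.mul_right (pow_dvd_pow 3 (by omega)) _) _
  obtain ⟨R, hR⟩ := Sylow.exists_subgroup_card_pow_prime 3 hN3
  have hRC : R.map N.subtype ≤ CV := by
    rintro _ ⟨g, hg, rfl⟩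
    obtain ⟨i, hi⟩ := IsPGroup.of_card hR ⟨g, hg⟩
    exact hthree g g.2 ⟨i, by simpa using congrArg (fun y : R => ((y : N) : G)) hi⟩
  have hK3 : 3 ^ (r + 1) ∣ Nat.card K := by
    have h1 := card_dvd_of_le hRC
    rw [card_map_of_injective N.subtype_injective, hR, ← hcomp, hP2] at h1
    exact (Nat.Coprime.pow_left _ (by norm_num)).dvd_of_dvd_mul_right h1
  -- an invariant Sylow subgroup
  set K' := K.map CV.subtype with hK'
  have htK : zpowers t ≤ normalizer (K' : Set G) := by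
    rw [zpowers_le]
    exact le_normalizer_map _ ⟨⟨t, htC⟩, by rw [normalizer_eq_top]; exact mem_top _, rfl⟩
  have hK'c : Nat.card K' = Nat.card K := card_map_of_injective CV.subtype_injective
  have hcop : (Nat.card (zpowers t)).Coprime (Nat.card K') := by
    rw [Nat.card_zpowers, ht, hK'c]
    exact Nat.prime_two.coprime_iff_not_dvd.2 hKc
  obtain ⟨Q, hQn⟩ := Cfsg.Agent.CoprimeAct.exists_invariant_sylow htK hcop (Or.inl inferInstance) 3
  set R0 := (Q : Subgroup K').map K'.subtype with hR0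
  have hR03 : 3 ^ (r + 1) ∣ Nat.card R0 := by
    rw [hR0, card_map_of_injective K'.subtype_injective]
    exact Q.pow_dvd_card_of_pow_dvd_card (hK'c ▸ hK3)
  have hR0C : R0 ≤ CV := (map_subtype_le _).trans (map_subtype_le _)
  have hR0p : IsPGroup 3 R0 := Q.2.map _
  have htn : t ∈ normalizer (R0 : Set G) := hQn (mem_zpowers t)
  obtain ⟨x, hxR, hxne⟩ : ∃ x ∈ R0, x * t ≠ t * x := by
    by_contra hall
    push Not at hall
    have hle : R0 ≤ V := by
      intro x hx
      obtain ⟨a, l, rfl⟩ := hC x (hall x hx)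
      obtain ⟨i, hi⟩ := hR0p ⟨_, hx⟩
      have e : φ (a, l) ^ 3 ^ i = φ 1 := (congrArg Subtype.val hi).trans (map_one φ).symm
      rw [← map_pow] at e
      have ha : a = 1 := eq_one_of_two_three (i := 1) (by rw [pow_one, pow_two, JanThom.z2_sq])
        (congrArg Prod.fst (hφ e))
      subst ha
      exact ⟨l, hcent 1 l (hR0C hx), rfl⟩
    have h1 := card_le_of_le hle
    rw [hVc] at h1
    have h2 := Nat.le_of_dvd Nat.card_pos hR03
    have h3 : 3 ^ r < 3 ^ (r + 1) := Nat.pow_lt_pow_right (by norm_num) (Nat.lt_succ_self r)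
    omega
  have ht2 : t * t = 1 := by rw [← pow_two, ← ht, pow_orderOf_eq_one]
  have hti : t⁻¹ = t := inv_eq_of_mul_eq_one_right ht2
  set c := x⁻¹ * (t * x * t⁻¹) with hc
  have hcR : c ∈ R0 := mul_mem (inv_mem hxR) ((mem_normalizer_iff.1 htn x).1 hxR)
  have hc1 : c ≠ 1 := fun h => hxne (by
    have hxe : t * x * t⁻¹ = x := (inv_mul_eq_one.1 h).symm
    exact (mul_inv_eq_iff_eq_mul.1 hxe).symm)
  have hcinv : t * c * t⁻¹ = c⁻¹ := by
    rw [hc, hti]
    calc t * (x⁻¹ * (t * x * t)) * t = t * x⁻¹ * (t * x * (t * t)) := by simp only [mul_assoc]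
      _ = t * x⁻¹ * t * x := by rw [ht2, mul_one]; simp only [mul_assoc]
      _ = (x⁻¹ * (t * x * t))⁻¹ := by simp only [mul_inv_rev, inv_inv, hti, mul_assoc]
  obtain ⟨k, hk⟩ := (IsPGroup.iff_orderOf.1 hR0p) ⟨c, hcR⟩
  rw [Subgroup.orderOf_mk] at hk
  rcases k with _ | k
  · exact absurd (orderOf_eq_one_iff.1 (by rw [hk, pow_zero])) hc1
  refine sym3_of_inverted (x := c ^ 3 ^ k) (w := t) ?_ ?_ ht2 ?_
  · rw [← pow_mul, ← pow_succ, ← hk, pow_orderOf_eq_one]
  · intro h1
    have := orderOf_dvd_of_pow_eq_one h1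
    rw [hk, Nat.pow_dvd_pow_iff_le_right (by norm_num)] at this
    omega
  · rw [← conj_pow, hcinv, inv_pow]

end Cfsg.Agent.GoldGroups
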