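/-
`PSU₃(2^n)` involves `S₃` but not `S₄`.
-/
import Cfsg.Agent.Lib.GoldGroups.Criteria
import Cfsg.Agent.Lib.PSU3Index.Orbit

set_option autoImplicit false
set_option linter.unusedSectionVars false
set_option linter.style.haveILetI false

namespace Cfsg.Agent.GoldGroups

open Matrix
open Cfsg.Agent.PSU3Index
open Cfsg.Agent.SU3Root (uu ww)

variable {F : Type*} [Field F] [Fintype F] {q : ℕ}

local notation "M3" => Matrix (Fin 3) (Fin 3) F

theorem psu3_sym3 [CharP F 2] (hF : Fintype.card F = q ^ 2) : Cfsg.Involves Sym3 (Cfsg.PSU 3 F q) := by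
  obtain ⟨C⟩ := exists_ctx hF
  have h2 : (2 : F) = 0 := by exact_mod_cast CharP.cast_eq_zero F 2
  have h : (1 : F) + C.σ 1 + 0 * C.σ 0 = 0 := by
    rw [map_one, zero_mul, add_zero, one_add_one_eq_two, h2]
  obtain ⟨u, hu⟩ : ∃ u, u = uEl C 0 1 h := ⟨_, rfl⟩
  obtain ⟨w, hw⟩ : ∃ w, w = wEl C := ⟨_, rfl⟩
  have hw2 : w * w = 1 := hw ▸ wEl_sq C
  have hu2 : u * u = 1 := mat_inj C (by
    rw [hu, mat_mul, mat_uEl, mat_one]
    ext i j
    fin_cases i <;> fin_cases j <;> simp [uu, Matrix.mul_apply, Fin.sum_univ_three]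
    linear_combination h2)
  have hx3 : (w * u) ^ 3 = 1 := mat_inj C (by
    rw [pow_succ, pow_two, hu, hw, mat_mul, mat_mul, mat_mul, mat_uEl, mat_wEl, mat_one]
    ext i j
    fin_cases i <;> fin_cases j <;> simp [uu, ww, Matrix.mul_apply, Fin.sum_univ_three] <;>
      first
        | linear_combination h2
        | linear_combination (-1 : F) * h2
        | linear_combination (0 : F) * h2)
  let π := QuotientGroup.mk' (Subgroup.center (Cfsg.SU 3 F q))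
  refine sym3_of_inverted (G := Cfsg.PSU 3 F q) (x := π (w * u)) (w := π w) ?_ ?_ ?_ ?_
  · rw [← map_pow, hx3, map_one]
  · intro h1
    have hb := center_le_borel C ((QuotientGroup.eq_one_iff (w * u)).1 h1)
    rw [hu, hw, Subgroup.mul_mem_cancel_right _ (uEl_mem C h)] at hb
    exact wEl_not_mem C hb
  · rw [← map_mul, hw2, map_one]
  · rw [← map_inv, ← map_inv, ← map_mul, ← map_mul]
    refine congrArg π ?_
    rw [← mul_assoc, hw2, one_mul, _root_.mul_inv_rev, inv_eq_of_mul_eq_one_right hu2]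

theorem two_mem_rad [CharP F 2] (C : Ctx F q) {g : Cfsg.SU 3 F q} (hg : g ∈ borel C) {k : ℕ}
    (hk : g ^ 2 ^ k = 1) : g ∈ rad C := by
  refine ⟨hg, ?_⟩
  have e := map_pow (lam C) ⟨g, hg⟩ (2 ^ k)
  rw [show (⟨g, hg⟩ : borel C) ^ 2 ^ k = 1 from Subtype.ext hk, map_one] at e
  have h1 : (lam C ⟨g, hg⟩ - 1) ^ 2 ^ k = 0 := by rw [sub_pow_char_pow, ← e, one_pow, sub_self]
  exact sub_eq_zero.1 ((pow_eq_zero_iff (pow_ne_zero k two_ne_zero)).1 h1)

theorem su3_not_sym4 {n : ℕ} (hn : 1 ≤ n) (hF : Fintype.card F = (2 ^ n) ^ 2) :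
    ¬ Cfsg.Involves Sym4 ↥(Cfsg.SU 3 F (2 ^ n)) := by
  haveI : Fact (Nat.Prime 2) := ⟨Nat.prime_two⟩
  haveI : CharP F 2 := charP_of_card_eq_prime_pow (p := 2) (f := n * 2) (by rw [hF, ← pow_mul])
  obtain ⟨C⟩ := exists_ctx hF
  refine not_sym4 fun T hT hT1 a b ha hb ha2 hb2 => ⟨n * 3, ?_⟩
  have hnd : ¬ 2 ∣ Nat.card (Pt C) := by
    rw [card_pt C, ← pow_mul, show n * 3 = (n * 3 - 1) + 1 by omega, pow_succ]
    omega
  obtain ⟨x, hx⟩ := hT.nonempty_fixed_point_of_prime_not_dvd_card (Pt C) hnd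
  have hx' : ∀ t ∈ T, t • x = x := fun t ht => hx ⟨t, ht⟩
  obtain ⟨h, rfl⟩ := exists_smul_base C x
  obtain ⟨u, huT, hu1⟩ : ∃ u ∈ T, u ≠ 1 := T.bot_or_exists_ne_one.resolve_left hT1
  have hborel : ∀ g, g • h • base C = h • base C → h⁻¹ * g * h ∈ borel C := fun g hg => by
    rw [← smul_base_eq_iff C, mul_smul, mul_smul, hg, inv_smul_smul]
  obtain ⟨k, hk⟩ := hT ⟨u, huT⟩
  have hk' : (h⁻¹ * u * h) ^ 2 ^ k = 1 := by
    have e : u ^ 2 ^ k = 1 := congrArg Subtype.val hk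
    rw [show h⁻¹ * u * h = h⁻¹ * u * h⁻¹⁻¹ by rw [inv_inv], conj_pow, e, mul_one, mul_inv_cancel]
  have hur := two_mem_rad C (hborel u (hx' u huT)) hk'
  have hfix : ∀ y : Pt C, u • y = y → y = h • base C := by
    intro y hy
    by_contra hne
    have h1 := rad_eq_one C hur (x := h⁻¹ • y) (fun e => hne (by rw [← e, smul_inv_smul])) (by
      rw [← mul_smul, mul_inv_cancel_right, mul_smul, hy])
    refine hu1 ?_
    calc u = h * (h⁻¹ * u * h) * h⁻¹ := by group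
      _ = 1 := by rw [h1]; group
  have hrad : ∀ g ∈ Subgroup.normalizer (T : Set (Cfsg.SU 3 F (2 ^ n))), (∃ k, orderOf g = 2 ^ k) →
      h⁻¹ * g * h ∈ rad C := by
    rintro g hg ⟨j, hj⟩
    refine two_mem_rad C (hborel g (hfix _ ?_)) (k := j) ?_
    · have hu' : g⁻¹ * u * g ∈ T := by
        have := (Subgroup.mem_normalizer_iff.1 (inv_mem hg) u).1 huT
        rwa [inv_inv] at this
      have e := hx' _ hu'
      rw [mul_smul, mul_smul, inv_smul_eq_iff] at e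
      exact e
    · rw [show h⁻¹ * g * h = h⁻¹ * g * h⁻¹⁻¹ by rw [inv_inv], conj_pow, ← hj, pow_orderOf_eq_one,
        mul_one, mul_inv_cancel]
  have hab : h⁻¹ * (a * b) * h ∈ rad C := by
    have := mul_mem (hrad a ha ha2) (hrad b hb hb2)
    rwa [show h⁻¹ * a * h * (h⁻¹ * b * h) = h⁻¹ * (a * b) * h by group] at this
  have hp : (h⁻¹ * (a * b) * h) ^ 2 ^ (n * 3) = 1 := by
    rw [pow_mul, ← card_rad C]
    exact congrArg Subtype.val (pow_card_eq_one' (x := (⟨_, hab⟩ : rad C)))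
  rw [show h⁻¹ * (a * b) * h = h⁻¹ * (a * b) * h⁻¹⁻¹ by rw [inv_inv], conj_pow, conj_eq_one_iff] at hp
  rw [hp]
  exact one_mem _

theorem psu3_not_sym4 {n : ℕ} (hn : 1 ≤ n) (hF : Fintype.card F = (2 ^ n) ^ 2) :
    ¬ Cfsg.Involves Sym4 (Cfsg.PSU 3 F (2 ^ n)) :=
  fun h => su3_not_sym4 hn hF (sym4_quotient _ h)

end Cfsg.Agent.GoldGroups
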