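import Cfsg.Agent.Lib.GoldGroups.Naming
import Cfsg.Agent.Lib.TwoClosedZJ.Main
import Cfsg.Agent.Lib.LocalEven.Involvement
import Cfsg.Agent.Lib.OddChar.OddTheorem
import Cfsg.Agent.S1927
import Cfsg.Agent.S2755
import Cfsg.Agent.S2758

/-!
# Simple groups without a section `S₄`
-/

set_option autoImplicit false
set_option linter.style.haveILetI false
set_option linter.unusedSectionVars false

namespace Cfsg.Agent.GoldGroups

open Subgroup

universe u

variable {G : Type u} [Group G] [Finite G]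

/-- The subgroup of S1927 is a strongly closed abelian subgroup. -/
theorem exists_closed_abelian [IsSimpleGroup G] (hna : ¬ IsMulCommutative G)
    (h4 : ¬ Cfsg.Involves (Equiv.Perm (Fin 4)) G) (S : Sylow 2 G) :
    ∃ A : Subgroup G, A ≠ ⊥ ∧ IsMulCommutative A ∧ Cfsg.IsStronglyClosed A (S : Subgroup G) := by
  haveI : Fact (Nat.Prime 2) := ⟨Nat.prime_two⟩
  obtain ⟨W, hW, hle, hub, hctl⟩ := Cfsg.Agent.S1927.result h4 S
  set A := W.map (S : Subgroup G).subtype with hA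
  have hAS : A ≤ (S : Subgroup G) := map_subtype_le _
  refine ⟨A, fun e => ?_, ?_, hAS, fun x hx g hg => ?_⟩
  · -- the centre of a Sylow subgroup contains an involution
    have heven : 2 ∣ Nat.card G := by
      by_contra h
      have hsol : Group.IsSolvable G :=
        OddChar.oddSolvable G (Nat.odd_iff.2 (Nat.two_dvd_ne_zero.1 h))
      exact hna ⟨⟨IsSimpleGroup.comm_iff_isSolvable.2 hsol⟩⟩
    haveI : Nontrivial (S : Subgroup G) := (S : Subgroup G).nontrivial_iff_ne_bot.2 (S.ne_bot_of_dvd_card heven)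
    have := S.2.center_nontrivial
    obtain ⟨k, hk⟩ := IsPGroup.iff_card.1 (S.2.to_subgroup (center (S : Subgroup G)))
    have hd : 2 ∣ Nat.card (center (S : Subgroup G)) := by
      rcases k with _ | k
      · exact absurd hk (by rw [pow_zero]; exact (Finite.one_lt_card).ne')
      · exact hk ▸ dvd_pow_self 2 (Nat.succ_ne_zero k)
    obtain ⟨z, hz⟩ := exists_prime_orderOf_dvd_card' (G := center (S : Subgroup G)) 2 hd
    have hmem : (((z : (S : Subgroup G))) : G) ∈ A := hle (subset_closure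
      ⟨⟨(z : (S : Subgroup G)), z.2, rfl⟩, orderOf_dvd_iff_pow_eq_one.1 (by
        rw [orderOf_coe, orderOf_coe, hz])⟩)
    rw [e, mem_bot] at hmem
    have h1 : z = 1 := Subtype.ext (Subtype.ext hmem)
    rw [h1, orderOf_one] at hz
    omega
  · have hJ : A ≤ Cfsg.centerThompsonOf 2 (S : Subgroup G) :=
      hub.trans ((closure_le _).2 fun y hy => hy.1)
    refine ⟨⟨fun a b => Subtype.ext ?_⟩⟩
    exact mem_centralizer_iff.1 (hJ b.2).2 a (hJ a.2).1
  · obtain ⟨-, hc⟩ := hctl {x} (Set.singleton_subset_iff.2 (hAS hx))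
    obtain ⟨n, hn, e⟩ := hc g (by rw [Set.image_singleton]; exact Set.singleton_subset_iff.2 hg)
    rw [e x rfl]
    exact (mem_normalizer_iff.1 hn x).1 hx

/-- A simple group without a section `S₄` is a Goldschmidt group. -/
theorem gold_of_sfour_free (hC : ClosedAbelianSimple.{u}) (hW : WalterGood.{u}) (hNF : RJNoField.{u})
    [IsSimpleGroup G] (hna : ¬ IsMulCommutative G) (h4 : ¬ Cfsg.Involves (Equiv.Perm (Fin 4)) G) :
    Cfsg.IsGoldschmidtGroup G := by
  obtain ⟨S⟩ : Nonempty (Sylow 2 G) := inferInstance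
  obtain ⟨A, hA, hAc, hsc⟩ := exists_closed_abelian hna h4 S
  rcases hC G S A hA hAc hsc with hS | ⟨H, hH⟩
  · haveI : Fact (Nat.Prime 2) := ⟨Nat.prime_two⟩
    refine gold_of_abelian hW hNF hna fun P => ?_
    exact ⟨⟨fun a b => (S.equiv P).symm.injective (by rw [map_mul, map_mul, hS.is_comm.comm])⟩⟩
  · exact gold_of_se hH

theorem S2754_of (hC : ClosedAbelianSimple.{u}) (hW : WalterGood.{u}) (hNF : RJNoField.{u}) [IsSimpleGroup G]
    (hna : ¬ IsMulCommutative G) :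
    ¬ Cfsg.Involves (Equiv.Perm (Fin 4)) G ↔ Cfsg.IsGoldschmidtGroup G :=
  ⟨gold_of_sfour_free hC hW hNF hna, fun h => (Cfsg.Agent.S2755.result h).1⟩

/-- A three-cycle and a transposition. -/
theorem perm_three_facts : ∃ c s : Equiv.Perm (Fin 3), c ^ 3 = 1 ∧ s * s = 1 ∧ s * c * s⁻¹ = c⁻¹ ∧ c⁻¹ ≠ c :=
  ⟨Equiv.swap 0 1 * Equiv.swap 1 2, Equiv.swap 0 1, by decide, by decide, by decide, by decide⟩

theorem sThree_free_of_no_witness (h : ¬ TwoClosedZJ.Witness 3 G) :
    ¬ Cfsg.Involves (Equiv.Perm (Fin 3)) G := fun hinv => by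
  haveI : Fact (Nat.Prime 3) := ⟨Nat.prime_three⟩
  obtain ⟨K, ψ, hψ⟩ := LEInvolve.exists_hom_of_involves hinv
  obtain ⟨c, s, hc, hs, hsc, hne⟩ := perm_three_facts
  have hR : IsPGroup 3 (zpowers c) := by
    rintro ⟨_, i, rfl⟩
    exact ⟨1, Subtype.ext (show (c ^ i) ^ 3 ^ 1 = 1 by
      rw [pow_one, ← zpow_natCast, zpow_comm, zpow_natCast, hc, one_zpow])⟩
  have hsN : s ∈ normalizer (zpowers c : Set (Equiv.Perm (Fin 3))) := mem_normalizer_fintype fun a ha => by
    obtain ⟨i, rfl⟩ := mem_zpowers_iff.1 ha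
    show s * c ^ i * s⁻¹ ∈ zpowers c
    rw [← conj_zpow, hsc]
    exact zpow_mem (inv_mem (mem_zpowers c)) i
  obtain ⟨g, P, ⟨k, hk⟩, hgs, hP, hPR, hgP⟩ := TwoClosedZJ.exists_lift ψ hψ hR (t := s)
    ⟨1, by rw [pow_one, pow_two, hs]⟩ hsN
  have hD := Cfsg.Agent.S2758.result (G := G) (p := 3) (by norm_num)
  have hkey : Cfsg.Involves (DihedralGroup 3) G := by
    refine hD.1.2 ⟨g, P.map K.subtype, ?_, hP.map _, mem_normalizer_fintype fun a ha => ?_, fun hcen => hne ?_⟩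
    · obtain ⟨j, -, hj⟩ := (Nat.dvd_prime_pow Nat.prime_two).1 (orderOf_dvd_of_pow_eq_one hk)
      exact ⟨j, by rw [orderOf_coe, hj]⟩
    · obtain ⟨b, hb, rfl⟩ := ha
      exact ⟨g * b * g⁻¹, hgP b hb, rfl⟩
    · obtain ⟨b, hb, e⟩ := hPR.ge (mem_zpowers c)
      have h1 : g * b = b * g :=
        Subtype.ext (mem_centralizer_iff.1 hcen b ⟨b, hb, rfl⟩).symm
      have h2 := congrArg ψ h1
      rw [map_mul, map_mul, hgs, e] at h2
      rw [← hsc, h2, mul_inv_cancel_right]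
  obtain ⟨x, y, -, ⟨i, hi⟩, hy1, hxy⟩ := hD.2.1 hkey
  exact h (TwoClosedZJ.witness_of_realIn (by norm_num) ⟨y, mem_top _, x, mem_top _, hy1,
    ⟨i, hi ▸ pow_orderOf_eq_one y⟩, hxy⟩)

/-- Sections of a group without a section `S₃`. -/
theorem sThree_free_section {H : Subgroup G} (N : Subgroup H) [N.Normal]
    (h : ¬ Cfsg.Involves (Equiv.Perm (Fin 3)) G) : ¬ Cfsg.Involves (Equiv.Perm (Fin 3)) (H ⧸ N) := fun hh => by
  obtain ⟨K, ψ, hψ⟩ := LEInvolve.exists_hom_of_involves hh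
  let q := QuotientGroup.mk' N
  refine h (LEInvolve.involves_of_hom (H.subtype.comp (K.comap q).subtype) (ψ.comp (q.subgroupComap K))
    (hψ.comp (q.subgroupComap_surjective_of_surjective K (QuotientGroup.mk'_surjective _))) fun x hx => ?_)
  rw [show x = 1 from Subtype.ext (Subtype.ext hx)]
  exact one_mem _

/-- A section `S₄` gives a section `S₃`. -/
theorem sFour_to_sThree (h : Cfsg.Involves (Equiv.Perm (Fin 4)) G) : Cfsg.Involves (Equiv.Perm (Fin 3)) G := by
  obtain ⟨K, ψ, hψ⟩ := LEInvolve.exists_hom_of_involves h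
  let ι : Equiv.Perm (Fin 3) →* Equiv.Perm (Fin 4) :=
    Equiv.Perm.extendDomainHom
      (Equiv.ofInjective (Fin.castSucc : Fin 3 → Fin 4) (Fin.castSucc_injective 3))
  have hι : Function.Injective ι := Equiv.Perm.extendDomainHom_injective _
  let f : ι.range.comap ψ →* Equiv.Perm (Fin 3) :=
    (MonoidHom.ofInjective hι).symm.toMonoidHom.comp (ψ.subgroupComap ι.range)
  refine LEInvolve.involves_of_hom (K.subtype.comp (ι.range.comap ψ).subtype) f
    ((MonoidHom.ofInjective hι).symm.surjective.comp (ψ.subgroupComap_surjective_of_surjective _ hψ)) fun x hx => ?_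
  rw [show x = 1 from Subtype.ext (Subtype.ext hx)]
  exact one_mem _

theorem S2757_of (hC : ClosedAbelianSimple.{u}) (hW : WalterGood.{u}) (hNF : RJNoField.{u}) (T : Sylow 3 G)
    (h : ∀ x ∈ (T : Subgroup G), x ≠ 1 →
      ∀ g ∈ Subgroup.normalizer (Cfsg.centerThompsonAOf (T : Subgroup G) : Set G), g * x * g⁻¹ ≠ x⁻¹) :
    ¬ Cfsg.Involves (Equiv.Perm (Fin 3)) G ∧
      Cfsg.IsCompositionKGroupWith Cfsg.IsSuzukiOrPSL2OddPowerThree G := by
  haveI : Fact (Nat.Prime 3) := ⟨Nat.prime_three⟩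
  have hfree : ¬ Cfsg.Involves (Equiv.Perm (Fin 3)) G := by
    refine sThree_free_of_no_witness ?_
    rintro ⟨T', x, hx, hx1, g, hg, hgx⟩
    obtain ⟨c, hc⟩ := MulAction.exists_smul_eq G T' T
    have hmap : (T : Subgroup G) = (T' : Subgroup G).map (MulAut.conj c).toMonoidHom := by rw [← hc]; rfl
    refine h (c * x * c⁻¹) (hmap.ge ⟨x, hx, rfl⟩) (fun e => hx1 (conj_eq_one_iff.1 e)) (c * g * c⁻¹) ?_ ?_
    · rw [ZJ.centerThompsonAOf_eq (p := 3), hmap,
        ← ZJ.zJ_map _ (MulAut.conj c).injective.injOn]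
      exact le_normalizer_map _ ⟨g, hg, rfl⟩
    · rw [show c * g * c⁻¹ * (c * x * c⁻¹) * (c * g * c⁻¹)⁻¹ = c * (g * x * g⁻¹) * c⁻¹ by group, hgx]
      group
  refine ⟨hfree, fun H _ N _ hs hna => ?_⟩
  have h3 := sThree_free_section N hfree
  haveI := hs
  exact (Cfsg.Agent.S2755.result (gold_of_sfour_free hC hW hNF hna fun h4 => h3 (sFour_to_sThree h4))).2.1 h3

end Cfsg.Agent.GoldGroups
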