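import Cfsg.Agent.Lib.GoldGroups.SFourFree
import Cfsg.Agent.Lib.RankOne.FromSE
import Cfsg.Agent.Lib.TwoF.Simple
import Cfsg.Agent.Lib.Small.DegreePrimeSuccData

/-!
# Simple groups in which no 3-element is inverted

No section `S₃`, hence no section `S₄`, hence a Goldschmidt group without a section `S₃`.
-/

set_option autoImplicit false
set_option linter.style.haveILetI false
set_option linter.unusedSectionVars false

namespace Cfsg.Agent.GoldGroups

open Subgroup

universe u

variable {G : Type u} [Group G] [Finite G]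

theorem no_witness_of_normalizer_le
    (hirr : ∀ x : G, (∀ r : ℕ, r.Prime → r ∣ orderOf x → r = 3) →
      Subgroup.normalizer ((Subgroup.zpowers x : Subgroup G) : Set G) ≤ Subgroup.centralizer {x}) :
    ¬ TwoClosedZJ.Witness 3 G := by
  haveI : Fact (Nat.Prime 3) := ⟨Nat.prime_three⟩
  rintro ⟨T, x, hx, hx1, g, -, hgx⟩
  obtain ⟨k, hk⟩ := IsPGroup.iff_orderOf.1 T.2 ⟨x, hx⟩
  rw [Subgroup.orderOf_mk] at hk
  have h3 : ∀ r : ℕ, r.Prime → r ∣ orderOf x → r = 3 := fun r hr hd =>
    (Nat.prime_dvd_prime_iff_eq hr Nat.prime_three).1 (hr.dvd_of_dvd_pow (hk ▸ hd))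
  have hgN : g ∈ normalizer ((zpowers x : Subgroup G) : Set G) := by
    refine mem_normalizer_fintype fun a ha => ?_
    obtain ⟨i, rfl⟩ := mem_zpowers_iff.1 ha
    show g * x ^ i * g⁻¹ ∈ zpowers x
    rw [← conj_zpow, hgx]
    exact zpow_mem (inv_mem (mem_zpowers x)) i
  have hc : g * x = x * g := mem_centralizer_singleton_iff.1 (hirr x h3 hgN)
  rw [hc, mul_inv_cancel_right] at hgx
  have h2 : x ^ 2 = 1 := by
    rw [pow_two]
    nth_rw 2 [hgx]
    exact mul_inv_cancel x
  have hd : 3 ^ k ∣ 2 := hk ▸ orderOf_dvd_of_pow_eq_one h2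
  rcases k with _ | k
  · exact hx1 (orderOf_eq_one_iff.1 (by rw [hk, pow_zero]))
  · have := Nat.le_of_dvd two_pos ((dvd_pow_self 3 k.succ_ne_zero).trans hd)
    omega

/-- S4031 from Goldschmidt's theorem, Walter's theorem and the absence of field automorphisms. -/
theorem S4031_of (hC : ClosedAbelianSimple.{u}) (hW : WalterGood.{u}) (hNF : RJNoField.{u}) [IsSimpleGroup G]
    (hna : ¬ IsMulCommutative G)
    (hirr : ∀ x : G, (∀ r : ℕ, r.Prime → r ∣ orderOf x → r = 3) →
      Subgroup.normalizer ((Subgroup.zpowers x : Subgroup G) : Set G) ≤ Subgroup.centralizer {x}) :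
    (∃ f : ℕ, 1 ≤ f ∧ Nonempty (G ≃* Matrix.ProjectiveSpecialLinearGroup (Fin 2) (GaloisField 3 (2 * f + 1)))) ∨
      Cfsg.IsSuzuki G := by
  have h3 := sThree_free_of_no_witness (no_witness_of_normalizer_le hirr)
  rcases (Cfsg.Agent.S2755.result
      (gold_of_sfour_free hC hW hNF hna fun h4 => h3 (sFour_to_sThree h4))).2.1 h3 with h | ⟨F, i1, i2, n, hF, ⟨e⟩⟩
  · exact Or.inr (RankOne.isSuzuki_of_iso h)
  · refine Or.inl ⟨n, ?_, ?_⟩
    · rcases Nat.eq_zero_or_pos n with rfl | hn
      · exfalso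
        haveI : Nontrivial (Matrix.ProjectiveSpecialLinearGroup (Fin 2) F) := e.symm.toEquiv.nontrivial
        refine TwoF.psl_three_not (F := F) (by simpa using hF)
          (IsSimpleGroup.isSimpleGroup_of_surjective e.toMonoidHom e.surjective) ?_
        by_contra! hall
        exact hna ⟨⟨fun a b => e.injective (by rw [map_mul, map_mul]; exact hall _ _)⟩⟩
      · exact hn
    · haveI : Fintype (GaloisField 3 (2 * n + 1)) := Fintype.ofFinite _
      have hK : Fintype.card (GaloisField 3 (2 * n + 1)) = Fintype.card F := by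
        rw [hF, ← Nat.card_eq_fintype_card, GaloisField.card 3 (2 * n + 1) (by omega)]
      obtain ⟨r⟩ : Nonempty (F ≃+* GaloisField 3 (2 * n + 1)) := ⟨FiniteField.ringEquivOfCardEq hK.symm⟩
      obtain ⟨f⟩ := PSucc.psl_congr r
      exact ⟨e.trans f⟩

end Cfsg.Agent.GoldGroups
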